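import Cfsg.Agent.Lib.H6.RuTC.Steps1

set_option autoImplicit false
set_option maxRecDepth 1000000

/-! # invariant through part 1 of Ru (generated) -/

namespace Cfsg.Agent.Lib.H6.RuTC

open Cfsg.Agent.Lib.H17.CosetCert Cfsg.Agent.Lib.H6.TC

theorem part1 {G Q : Type} [Group G] [MulAction G Q] (γ : ℕ → G)
    (hiv : ∀ x < 12, γ (iv x) = (γ x)⁻¹) (q0 : Q) (hw : WordsOK γ q0 words)
    (h0 : Inv F 12 γ q0 25000 17221) : Inv F 12 γ q0 50000 34939 := by
  have h1 := checkSteps_sound F iv 12 262144 γ hiv q0 words hw steps25 25000 17221 17902 h0 chk25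
  rw [len25] at h1
  have h2 := checkSteps_sound F iv 12 262144 γ hiv q0 words hw steps26 26000 17902 18642 h1 chk26
  rw [len26] at h2
  have h3 := checkSteps_sound F iv 12 262144 γ hiv q0 words hw steps27 27000 18642 19413 h2 chk27
  rw [len27] at h3
  have h4 := checkSteps_sound F iv 12 262144 γ hiv q0 words hw steps28 28000 19413 20096 h3 chk28
  rw [len28] at h4
  have h5 := checkSteps_sound F iv 12 262144 γ hiv q0 words hw steps29 29000 20096 20756 h4 chk29
  rw [len29] at h5
  have h6 := checkSteps_sound F iv 12 262144 γ hiv q0 words hw steps30 30000 20756 21530 h5 chk30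
  rw [len30] at h6
  have h7 := checkSteps_sound F iv 12 262144 γ hiv q0 words hw steps31 31000 21530 22288 h6 chk31
  rw [len31] at h7
  have h8 := checkSteps_sound F iv 12 262144 γ hiv q0 words hw steps32 32000 22288 22998 h7 chk32
  rw [len32] at h8
  have h9 := checkSteps_sound F iv 12 262144 γ hiv q0 words hw steps33 33000 22998 23698 h8 chk33
  rw [len33] at h9
  have h10 := checkSteps_sound F iv 12 262144 γ hiv q0 words hw steps34 34000 23698 24399 h9 chk34
  rw [len34] at h10
  have h11 := checkSteps_sound F iv 12 262144 γ hiv q0 words hw steps35 35000 24399 25047 h10 chk35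
  rw [len35] at h11
  have h12 := checkSteps_sound F iv 12 262144 γ hiv q0 words hw steps36 36000 25047 25762 h11 chk36
  rw [len36] at h12
  have h13 := checkSteps_sound F iv 12 262144 γ hiv q0 words hw steps37 37000 25762 26483 h12 chk37
  rw [len37] at h13
  have h14 := checkSteps_sound F iv 12 262144 γ hiv q0 words hw steps38 38000 26483 27173 h13 chk38
  rw [len38] at h14
  have h15 := checkSteps_sound F iv 12 262144 γ hiv q0 words hw steps39 39000 27173 27913 h14 chk39
  rw [len39] at h15
  have h16 := checkSteps_sound F iv 12 262144 γ hiv q0 words hw steps40 40000 27913 28636 h15 chk40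
  rw [len40] at h16
  have h17 := checkSteps_sound F iv 12 262144 γ hiv q0 words hw steps41 41000 28636 29380 h16 chk41
  rw [len41] at h17
  have h18 := checkSteps_sound F iv 12 262144 γ hiv q0 words hw steps42 42000 29380 30089 h17 chk42
  rw [len42] at h18
  have h19 := checkSteps_sound F iv 12 262144 γ hiv q0 words hw steps43 43000 30089 30822 h18 chk43
  rw [len43] at h19
  have h20 := checkSteps_sound F iv 12 262144 γ hiv q0 words hw steps44 44000 30822 31565 h19 chk44
  rw [len44] at h20
  have h21 := checkSteps_sound F iv 12 262144 γ hiv q0 words hw steps45 45000 31565 32236 h20 chk45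
  rw [len45] at h21
  have h22 := checkSteps_sound F iv 12 262144 γ hiv q0 words hw steps46 46000 32236 32942 h21 chk46
  rw [len46] at h22
  have h23 := checkSteps_sound F iv 12 262144 γ hiv q0 words hw steps47 47000 32942 33559 h22 chk47
  rw [len47] at h23
  have h24 := checkSteps_sound F iv 12 262144 γ hiv q0 words hw steps48 48000 33559 34242 h23 chk48
  rw [len48] at h24
  have h25 := checkSteps_sound F iv 12 262144 γ hiv q0 words hw steps49 49000 34242 34939 h24 chk49
  rw [len49] at h25
  exact h25

end Cfsg.Agent.Lib.H6.RuTC
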