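import Cfsg.Agent.Lib.H6.RuTC.Steps10

set_option autoImplicit false
set_option maxRecDepth 1000000

/-! # invariant through part 10 of Ru (generated) -/

namespace Cfsg.Agent.Lib.H6.RuTC

open Cfsg.Agent.Lib.H17.CosetCert Cfsg.Agent.Lib.H6.TC

theorem part10 {G Q : Type} [Group G] [MulAction G Q] (γ : ℕ → G)
    (hiv : ∀ x < 12, γ (iv x) = (γ x)⁻¹) (q0 : Q) (hw : WordsOK γ q0 words)
    (h0 : Inv F 12 γ q0 250000 75553) : Inv F 12 γ q0 255171 76433 := by
  have h1 := checkSteps_sound F iv 12 262144 γ hiv q0 words hw steps250 250000 75553 75731 h0 chk250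
  rw [len250] at h1
  have h2 := checkSteps_sound F iv 12 262144 γ hiv q0 words hw steps251 251000 75731 75798 h1 chk251
  rw [len251] at h2
  have h3 := checkSteps_sound F iv 12 262144 γ hiv q0 words hw steps252 252000 75798 76039 h2 chk252
  rw [len252] at h3
  have h4 := checkSteps_sound F iv 12 262144 γ hiv q0 words hw steps253 253000 76039 76249 h3 chk253
  rw [len253] at h4
  have h5 := checkSteps_sound F iv 12 262144 γ hiv q0 words hw steps254 254000 76249 76422 h4 chk254
  rw [len254] at h5
  have h6 := checkSteps_sound F iv 12 262144 γ hiv q0 words hw steps255 255000 76422 76433 h5 chk255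
  rw [len255] at h6
  exact h6

end Cfsg.Agent.Lib.H6.RuTC
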