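import Cfsg.Agent.Lib.H6.RuTC.Steps2

set_option autoImplicit false
set_option maxRecDepth 1000000

/-! # invariant through part 2 of Ru (generated) -/

namespace Cfsg.Agent.Lib.H6.RuTC

open Cfsg.Agent.Lib.H17.CosetCert Cfsg.Agent.Lib.H6.TC

theorem part2 {G Q : Type} [Group G] [MulAction G Q] (γ : ℕ → G)
    (hiv : ∀ x < 12, γ (iv x) = (γ x)⁻¹) (q0 : Q) (hw : WordsOK γ q0 words)
    (h0 : Inv F 12 γ q0 50000 34939) : Inv F 12 γ q0 75000 53046 := by
  have h1 := checkSteps_sound F iv 12 262144 γ hiv q0 words hw steps50 50000 34939 35711 h0 chk50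
  rw [len50] at h1
  have h2 := checkSteps_sound F iv 12 262144 γ hiv q0 words hw steps51 51000 35711 36430 h1 chk51
  rw [len51] at h2
  have h3 := checkSteps_sound F iv 12 262144 γ hiv q0 words hw steps52 52000 36430 37193 h2 chk52
  rw [len52] at h3
  have h4 := checkSteps_sound F iv 12 262144 γ hiv q0 words hw steps53 53000 37193 37921 h3 chk53
  rw [len53] at h4
  have h5 := checkSteps_sound F iv 12 262144 γ hiv q0 words hw steps54 54000 37921 38602 h4 chk54
  rw [len54] at h5
  have h6 := checkSteps_sound F iv 12 262144 γ hiv q0 words hw steps55 55000 38602 39324 h5 chk55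
  rw [len55] at h6
  have h7 := checkSteps_sound F iv 12 262144 γ hiv q0 words hw steps56 56000 39324 40044 h6 chk56
  rw [len56] at h7
  have h8 := checkSteps_sound F iv 12 262144 γ hiv q0 words hw steps57 57000 40044 40771 h7 chk57
  rw [len57] at h8
  have h9 := checkSteps_sound F iv 12 262144 γ hiv q0 words hw steps58 58000 40771 41492 h8 chk58
  rw [len58] at h9
  have h10 := checkSteps_sound F iv 12 262144 γ hiv q0 words hw steps59 59000 41492 42254 h9 chk59
  rw [len59] at h10
  have h11 := checkSteps_sound F iv 12 262144 γ hiv q0 words hw steps60 60000 42254 42976 h10 chk60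
  rw [len60] at h11
  have h12 := checkSteps_sound F iv 12 262144 γ hiv q0 words hw steps61 61000 42976 43697 h11 chk61
  rw [len61] at h12
  have h13 := checkSteps_sound F iv 12 262144 γ hiv q0 words hw steps62 62000 43697 44467 h12 chk62
  rw [len62] at h13
  have h14 := checkSteps_sound F iv 12 262144 γ hiv q0 words hw steps63 63000 44467 45194 h13 chk63
  rw [len63] at h14
  have h15 := checkSteps_sound F iv 12 262144 γ hiv q0 words hw steps64 64000 45194 45968 h14 chk64
  rw [len64] at h15
  have h16 := checkSteps_sound F iv 12 262144 γ hiv q0 words hw steps65 65000 45968 46676 h15 chk65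
  rw [len65] at h16
  have h17 := checkSteps_sound F iv 12 262144 γ hiv q0 words hw steps66 66000 46676 47374 h16 chk66
  rw [len66] at h17
  have h18 := checkSteps_sound F iv 12 262144 γ hiv q0 words hw steps67 67000 47374 48044 h17 chk67
  rw [len67] at h18
  have h19 := checkSteps_sound F iv 12 262144 γ hiv q0 words hw steps68 68000 48044 48783 h18 chk68
  rw [len68] at h19
  have h20 := checkSteps_sound F iv 12 262144 γ hiv q0 words hw steps69 69000 48783 49460 h19 chk69
  rw [len69] at h20
  have h21 := checkSteps_sound F iv 12 262144 γ hiv q0 words hw steps70 70000 49460 50201 h20 chk70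
  rw [len70] at h21
  have h22 := checkSteps_sound F iv 12 262144 γ hiv q0 words hw steps71 71000 50201 50884 h21 chk71
  rw [len71] at h22
  have h23 := checkSteps_sound F iv 12 262144 γ hiv q0 words hw steps72 72000 50884 51608 h22 chk72
  rw [len72] at h23
  have h24 := checkSteps_sound F iv 12 262144 γ hiv q0 words hw steps73 73000 51608 52274 h23 chk73
  rw [len73] at h24
  have h25 := checkSteps_sound F iv 12 262144 γ hiv q0 words hw steps74 74000 52274 53046 h24 chk74
  rw [len74] at h25
  exact h25

end Cfsg.Agent.Lib.H6.RuTC
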