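import Cfsg.Agent.Lib.H6.RuTC.Steps4

set_option autoImplicit false
set_option maxRecDepth 1000000

/-! # invariant through part 4 of Ru (generated) -/

namespace Cfsg.Agent.Lib.H6.RuTC

open Cfsg.Agent.Lib.H17.CosetCert Cfsg.Agent.Lib.H6.TC

theorem part4 {G Q : Type} [Group G] [MulAction G Q] (γ : ℕ → G)
    (hiv : ∀ x < 12, γ (iv x) = (γ x)⁻¹) (q0 : Q) (hw : WordsOK γ q0 words)
    (h0 : Inv F 12 γ q0 100000 70296) : Inv F 12 γ q0 125000 74905 := by
  have h1 := checkSteps_sound F iv 12 262144 γ hiv q0 words hw steps100 100000 70296 71103 h0 chk100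
  rw [len100] at h1
  have h2 := checkSteps_sound F iv 12 262144 γ hiv q0 words hw steps101 101000 71103 71918 h1 chk101
  rw [len101] at h2
  have h3 := checkSteps_sound F iv 12 262144 γ hiv q0 words hw steps102 102000 71918 72633 h2 chk102
  rw [len102] at h3
  have h4 := checkSteps_sound F iv 12 262144 γ hiv q0 words hw steps103 103000 72633 73362 h3 chk103
  rw [len103] at h4
  have h5 := checkSteps_sound F iv 12 262144 γ hiv q0 words hw steps104 104000 73362 74068 h4 chk104
  rw [len104] at h5
  have h6 := checkSteps_sound F iv 12 262144 γ hiv q0 words hw steps105 105000 74068 74741 h5 chk105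
  rw [len105] at h6
  have h7 := checkSteps_sound F iv 12 262144 γ hiv q0 words hw steps106 106000 74741 74905 h6 chk106
  rw [len106] at h7
  have h8 := checkSteps_sound F iv 12 262144 γ hiv q0 words hw steps107 107000 74905 74905 h7 chk107
  rw [len107] at h8
  have h9 := checkSteps_sound F iv 12 262144 γ hiv q0 words hw steps108 108000 74905 74905 h8 chk108
  rw [len108] at h9
  have h10 := checkSteps_sound F iv 12 262144 γ hiv q0 words hw steps109 109000 74905 74905 h9 chk109
  rw [len109] at h10
  have h11 := checkSteps_sound F iv 12 262144 γ hiv q0 words hw steps110 110000 74905 74905 h10 chk110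
  rw [len110] at h11
  have h12 := checkSteps_sound F iv 12 262144 γ hiv q0 words hw steps111 111000 74905 74905 h11 chk111
  rw [len111] at h12
  have h13 := checkSteps_sound F iv 12 262144 γ hiv q0 words hw steps112 112000 74905 74905 h12 chk112
  rw [len112] at h13
  have h14 := checkSteps_sound F iv 12 262144 γ hiv q0 words hw steps113 113000 74905 74905 h13 chk113
  rw [len113] at h14
  have h15 := checkSteps_sound F iv 12 262144 γ hiv q0 words hw steps114 114000 74905 74905 h14 chk114
  rw [len114] at h15
  have h16 := checkSteps_sound F iv 12 262144 γ hiv q0 words hw steps115 115000 74905 74905 h15 chk115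
  rw [len115] at h16
  have h17 := checkSteps_sound F iv 12 262144 γ hiv q0 words hw steps116 116000 74905 74905 h16 chk116
  rw [len116] at h17
  have h18 := checkSteps_sound F iv 12 262144 γ hiv q0 words hw steps117 117000 74905 74905 h17 chk117
  rw [len117] at h18
  have h19 := checkSteps_sound F iv 12 262144 γ hiv q0 words hw steps118 118000 74905 74905 h18 chk118
  rw [len118] at h19
  have h20 := checkSteps_sound F iv 12 262144 γ hiv q0 words hw steps119 119000 74905 74905 h19 chk119
  rw [len119] at h20
  have h21 := checkSteps_sound F iv 12 262144 γ hiv q0 words hw steps120 120000 74905 74905 h20 chk120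
  rw [len120] at h21
  have h22 := checkSteps_sound F iv 12 262144 γ hiv q0 words hw steps121 121000 74905 74905 h21 chk121
  rw [len121] at h22
  have h23 := checkSteps_sound F iv 12 262144 γ hiv q0 words hw steps122 122000 74905 74905 h22 chk122
  rw [len122] at h23
  have h24 := checkSteps_sound F iv 12 262144 γ hiv q0 words hw steps123 123000 74905 74905 h23 chk123
  rw [len123] at h24
  have h25 := checkSteps_sound F iv 12 262144 γ hiv q0 words hw steps124 124000 74905 74905 h24 chk124
  rw [len124] at h25
  exact h25

end Cfsg.Agent.Lib.H6.RuTC
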