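import Cfsg.Agent.Lib.H6.TCMask2
import Cfsg.Agent.Lib.H6.RuTC.Rows0

set_option autoImplicit false
set_option maxRecDepth 1000000

/-! # final table of Ru (generated) -/

namespace Cfsg.Agent.Lib.H6.RuTC

open Cfsg.Agent.Lib.H17.CosetCert Cfsg.Agent.Lib.H6.TC

/-- all row chunks -/
def rowsAll : List (List ℕ) := [rows0, rows1, rows2, rows3, rows4, rows5, rows6, rows7, rows8]

/-- all row chunks with their bases -/
def rowsAllO : List (ℕ × List ℕ) := [(0, rows0), (1195, rows1), (2616, rows2), (4530, rows3), (7573, rows4), (11705, rows5), (23034, rows6), (43814, rows7), (76073, rows8)]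

theorem rowsAllO_snd : rowsAllO.map Prod.snd = rowsAll := rfl

/-- all rows -/
def rows : List ℕ := rowsAll.flatten

set_option maxHeartbeats 0 in
theorem mask_all : maskRAllO 262144 rowsAllO = mask := by
  decide +kernel

theorem mask_mem : ∀ j, tb mask j = true → ∃ r ∈ rows, Nat.mod r 262144 = j := by
  intro j hj
  rw [← mask_all] at hj
  have := tb_maskRAllO 262144 rowsAllO j hj
  rw [rowsAllO_snd] at this
  exact this

set_option maxHeartbeats 0 in
theorem rows_length : rows.length = 8120 := by
  decide +kernel

theorem mask_zero : tb mask 0 = true := by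
  decide +kernel

theorem rows_chk : ∀ L ∈ rowsAll, checkRows F iv 12 262144 255171 mask L = true := by
  intro L hL
  simp only [rowsAll, List.mem_cons, List.not_mem_nil, or_false] at hL
  rcases hL with rfl | rfl | rfl | rfl | rfl | rfl | rfl | rfl | rfl
  · exact rchk0
  · exact rchk1
  · exact rchk2
  · exact rchk3
  · exact rchk4
  · exact rchk5
  · exact rchk6
  · exact rchk7
  · exact rchk8

end Cfsg.Agent.Lib.H6.RuTC
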