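import Cfsg.Agent.Lib.H6.RuTC.Facts0
import Cfsg.Agent.Lib.H6.RuTC.Facts1
import Cfsg.Agent.Lib.H6.RuTC.Facts2
import Cfsg.Agent.Lib.H6.RuTC.Facts3
import Cfsg.Agent.Lib.H6.RuTC.Facts4
import Cfsg.Agent.Lib.H6.RuTC.Facts5
import Cfsg.Agent.Lib.H6.RuTC.Facts6
import Cfsg.Agent.Lib.H6.RuTC.Facts7

set_option autoImplicit false
set_option maxRecDepth 1000000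

/-! # facts and words of Ru (generated) -/

namespace Cfsg.Agent.Lib.H6.RuTC

open Cfsg.Agent.Lib.H17.CosetCert Cfsg.Agent.Lib.H6.TC

/-- the packed facts -/
def factTree : BT := .node (.node (.node (ft0) (ft1)) (.node (ft2) (ft3))) (.node (.node (ft4) (ft5)) (.node (ft6) (ft7)))

/-- fact number `f` -/
noncomputable def F (f : ℕ) : ℕ × ℕ × ℕ := factOf factTree 32 4096 38 274877906944 17 131072 f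

/-- the inverse letter -/
def iv (x : ℕ) : ℕ := (cond (Nat.beq x 0) 1 (cond (Nat.beq x 1) 0 (cond (Nat.beq x 2) 3 (cond (Nat.beq x 3) 2 (cond (Nat.beq x 4) 5 (cond (Nat.beq x 5) 4 (cond (Nat.beq x 6) 7 (cond (Nat.beq x 7) 6 (cond (Nat.beq x 8) 9 (cond (Nat.beq x 9) 8 (cond (Nat.beq x 10) 11 (cond (Nat.beq x 11) 10 x))))))))))))

/-- the words: relator rotations, subgroup generators, trivial words -/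
def words : WT := .node (.node (.node (.node (.node (.node (.node (.node (.node (.leaf [0, 2, 0, 2, 0, 2, 0, 2, 0, 3, 0, 2, 0, 2, 0, 2, 0, 2, 0, 3, 0, 2, 0, 2, 0, 2, 0, 2, 0, 3, 0, 2, 0, 2, 0, 2, 0, 2, 0, 3, 0, 2, 0, 2, 0, 2, 0, 2, 0, 3, 0, 2, 0, 2, 0, 2, 0, 2, 0, 3] true) (.leaf [0, 9, 10, 0, 3, 8, 2, 0, 9, 9, 10, 9, 0, 3, 8, 8, 0, 8, 8, 10, 8, 0, 9] true)) (.node (.leaf [3, 1, 3, 1, 2, 8, 0, 9, 3, 1, 2, 1, 2, 1, 2, 1, 3, 1, 2, 1, 2, 1, 2, 1, 3, 1, 3, 1, 3, 1, 2, 1, 3, 1] true) (.leaf [8, 8, 5, 5] true))) (.node (.node (.leaf [3, 1, 3, 1, 3, 1, 3, 1, 3, 1, 2, 1, 3, 1, 3, 1, 3, 1, 2, 1, 2, 1, 2, 1, 2, 1, 3, 1, 3, 1, 3, 1, 2, 1, 3, 8, 2, 9, 1] true) (.leaf [0, 2, 1, 3, 0,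 2, 1, 3, 0, 2, 1, 3, 0, 2, 1, 3, 0, 2, 1, 3] true)) (.leaf [2, 0, 2, 0, 2, 0, 2, 0, 3, 0, 3, 0, 2, 0, 2, 0, 2, 0, 3, 0, 2, 0, 2, 0, 7, 0] true))) (.node (.node (.node (.leaf [0, 2, 0, 2, 0, 2, 0, 3, 0, 2, 0, 2, 0, 2, 0, 2, 0, 3, 0, 2, 0, 2, 0, 2, 0, 2, 0, 3, 0, 2, 0, 2, 0, 2, 0, 2, 0, 3, 0, 2, 0, 2, 0, 2, 0, 2, 0, 3, 0, 2, 0, 2, 0, 2, 0, 2, 0, 3, 0, 2] true) (.leaf [0, 10, 3, 0, 8, 2, 8, 2, 8, 10, 8, 0, 8, 0, 9, 10, 0, 2, 9, 2, 9, 9, 3] true)) (.leaf [3, 0, 2, 0, 2, 1, 3, 1, 3, 0, 2, 0, 2, 1, 3, 1, 3, 0, 2, 0, 2, 1, 3, 1, 3, 0, 2, 0, 2, 1, 3, 1] true)) (.node (.node (.leaf [2, 1, 3, 8, 2, 9, 1, 3, 1, 3, 1, 3, 1, 3, 1, 3, 1, 2, 1, 3, 1, 3, 1, 3, 1, 2, 1, 2, 1, 2, 1, 2, 1,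 3, 1, 3, 1, 3, 1] true) (.leaf [10, 5, 6, 4, 6, 5, 6, 5, 7, 4, 7, 5, 10, 6] true)) (.leaf [3, 8, 10, 9, 2, 8, 0, 3, 0, 2, 10, 3, 0, 3, 9, 3, 8, 0, 8, 10, 2, 9, 3, 9, 2, 0] true)))) (.node (.node (.node (.node (.leaf [0, 2, 0, 3, 0, 2, 0, 2, 0, 2, 0, 2, 0, 3, 0, 2, 0, 2, 0, 2, 0, 2, 0, 3, 0, 2, 0, 2, 0, 2, 0, 2, 0, 3, 0, 2, 0, 2, 0, 2, 0, 2, 0, 3, 0, 2, 0, 2, 0, 2, 0, 2, 0, 3, 0, 2, 0, 2, 0, 2] true) (.leaf [2, 8, 10, 8, 0, 8, 0, 9, 10, 0, 2, 9, 2, 9, 9, 3, 0, 10, 3, 0, 8, 2, 8] true)) (.node (.leaf [3, 0, 2, 0, 2, 1, 3, 1, 3, 0, 2, 0, 2, 1, 3, 1, 3, 0, 2, 0, 2, 1, 3, 1, 3, 0, 2, 0, 2, 1, 3, 1] true) (.leaf [2] false))) (.node (.node (.leaf [3, 1, 2, 1, 2, 1, 2, 1, 2, 1,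 3, 1, 3, 1, 3, 1, 2, 1, 3, 8, 2, 9, 1, 3, 1, 3, 1, 3, 1, 3, 1, 3, 1, 2, 1, 3, 1, 3, 1] true) (.leaf [2, 0, 3, 0, 3, 0, 3, 0, 2, 0, 2, 0, 2, 5, 2, 0, 3, 0, 3, 0] true)) (.leaf [2, 0, 3, 0, 2, 0, 2, 0, 7, 0, 2, 0, 2, 0, 2, 0, 2, 0, 3, 0, 3, 0, 2, 0, 2, 0] true))) (.node (.node (.node (.leaf [0, 3, 0, 2, 0, 2, 0, 2, 0, 2, 0, 3, 0, 2, 0, 2, 0, 2, 0, 2, 0, 3, 0, 2, 0, 2, 0, 2, 0, 2, 0, 3, 0, 2, 0, 2, 0, 2, 0, 2, 0, 3, 0, 2, 0, 2, 0, 2, 0, 2, 0, 3, 0, 2, 0, 2, 0, 2, 0, 2] true) (.leaf [10, 2, 8, 0, 9, 2, 10, 9, 0, 3, 0, 8, 3, 10, 8, 0, 9, 0, 9, 2, 8] true)) (.leaf [2, 0, 2, 0, 2, 0, 2, 0, 2, 0, 2, 0, 2, 0, 2, 0, 2, 0, 2, 0, 2, 0, 2, 0, 2, 0] true)) (.node (.node (.leaf [2, 1,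 2, 1, 2, 1, 3, 1, 3, 1, 3, 1, 2, 1, 3, 1, 3, 1, 3, 1, 2, 8, 0, 9, 3, 1, 2, 1, 2, 1, 2, 1, 3, 1] true) (.leaf [5, 6, 4, 7, 7, 5, 7, 9, 10, 8, 10, 6] true)) (.leaf [8, 0, 8, 10, 2, 9, 3, 9, 2, 0, 3, 8, 10, 9, 2, 8, 0, 3, 0, 2, 10, 3, 0, 3, 9, 3] true))))) (.node (.node (.node (.node (.node (.leaf [0, 3, 0, 2, 0, 2, 0, 2, 0, 2, 0, 3, 0, 2, 0, 2, 0, 2, 0, 2, 0, 3, 0, 2, 0, 2, 0, 2, 0, 2, 0, 3, 0, 2, 0, 2, 0, 2, 0, 2, 0, 3, 0, 2, 0, 2, 0, 2, 0, 2, 0, 3, 0, 2, 0, 2, 0, 2, 0, 2] true) (.leaf [9, 9, 10, 9, 0, 3, 8, 8, 0, 8, 8, 10, 8, 0, 9, 0, 9, 10, 0, 3, 8, 2, 0] true)) (.node (.leaf [3, 0, 2, 0, 2, 1, 3, 1, 3, 0, 2, 0, 2, 1, 3, 1, 3, 0, 2, 0, 2, 1, 3, 1, 3, 0, 2, 0, 2, 1, 3, 1]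 true) (.leaf [2, 2, 2] true))) (.node (.node (.leaf [3, 1, 2, 1, 3, 1, 3, 1, 3, 1, 2, 1, 2, 1, 2, 1, 2, 1, 3, 1, 3, 1, 3, 1, 2, 1, 3, 8, 2, 9, 1, 3, 1, 3, 1, 3, 1, 3, 1] true) (.leaf [0, 2, 1, 3, 0, 2, 1, 3, 0, 2, 1, 3, 0, 2, 1, 3, 0, 2, 1, 3] true)) (.leaf [3, 0, 3, 0, 2, 0, 2, 0, 2, 0, 3, 0, 2, 0, 2, 0, 7, 0, 2, 0, 2, 0, 2, 0, 2, 0] true))) (.node (.node (.node (.leaf [0, 2, 0, 2, 0, 2, 0, 2, 0, 3, 0, 2, 0, 2, 0, 2, 0, 2, 0, 3, 0, 2, 0, 2, 0, 2, 0, 2, 0, 3, 0, 2, 0, 2, 0, 2, 0, 2, 0, 3, 0, 2, 0, 2, 0, 2, 0, 2, 0, 3, 0, 2, 0, 2, 0, 2, 0, 2, 0, 3] true) (.leaf [10, 8, 0, 9, 0, 9, 2, 8, 10, 2, 8, 0, 9, 2, 10, 9, 0, 3, 0, 8, 3] true)) (.leaf [2, 0, 2, 0, 2, 0, 2, 0, 2, 0,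 2, 0, 2, 0, 2, 0, 2, 0, 2, 0, 2, 0, 2, 0, 2, 0] true)) (.node (.node (.leaf [2, 1, 2, 1, 2, 1, 3, 1, 2, 1, 2, 1, 2, 1, 3, 1, 3, 1, 3, 1, 2, 1, 3, 1, 3, 1, 3, 1, 2, 8, 0, 9, 3, 1] true) (.leaf [7, 4, 7, 5, 10, 6, 10, 5, 6, 4, 6, 5, 6, 5] true)) (.leaf [0, 2, 10, 3, 0, 3, 9, 3, 8, 0, 8, 10, 2, 9, 3, 9, 2, 0, 3, 8, 10, 9, 2, 8, 0, 3] true)))) (.node (.node (.node (.node (.leaf [0, 2, 0, 2, 0, 3, 0, 2, 0, 2, 0, 2, 0, 2, 0, 3, 0, 2, 0, 2, 0, 2, 0, 2, 0, 3, 0, 2, 0, 2, 0, 2, 0, 2, 0, 3, 0, 2, 0, 2, 0, 2, 0, 2, 0, 3, 0, 2, 0, 2, 0, 2, 0, 2, 0, 3, 0, 2, 0, 2] true) (.leaf [10, 0, 2, 9, 2, 9, 9, 3, 0, 10, 3, 0, 8, 2, 8, 2, 8, 10, 8, 0, 8, 0, 9] true)) (.node (.leaf [3, 0, 2, 0, 2,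 1, 3, 1, 3, 0, 2, 0, 2, 1, 3, 1, 3, 0, 2, 0, 2, 1, 3, 1, 3, 0, 2, 0, 2, 1, 3, 1] true) (.leaf [6, 7] true))) (.node (.node (.leaf [2, 1, 3, 1, 3, 1, 3, 1, 2, 1, 3, 8, 2, 9, 1, 3, 1, 3, 1, 3, 1, 3, 1, 3, 1, 2, 1, 3, 1, 3, 1, 3, 1, 2, 1, 2, 1, 2, 1] true) (.leaf [2, 0, 2, 0, 2, 5, 2, 0, 3, 0, 3, 0, 2, 0, 3, 0, 3, 0, 3, 0] true)) (.leaf [7, 0, 2, 0, 2, 0, 2, 0, 2, 0, 3, 0, 3, 0, 2, 0, 2, 0, 2, 0, 3, 0, 2, 0, 2, 0] true))) (.node (.node (.node (.leaf [0, 2, 0, 3, 0, 2, 0, 2, 0, 2, 0, 2, 0, 3, 0, 2, 0, 2, 0, 2, 0, 2, 0, 3, 0, 2, 0, 2, 0, 2, 0, 2, 0, 3, 0, 2, 0, 2, 0, 2, 0, 2, 0, 3, 0, 2, 0, 2, 0, 2, 0, 2, 0, 3, 0, 2, 0, 2, 0, 2] true) (.leaf [0, 2, 1, 3, 0, 2, 1, 3, 0, 2, 1,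 3, 0, 2, 1, 3, 0, 2, 1, 3] true)) (.leaf [2, 0, 2, 0, 2, 0, 2, 0, 2, 0, 2, 0, 2, 0, 2, 0, 2, 0, 2, 0, 2, 0, 2, 0, 2, 0] true)) (.node (.node (.leaf [3, 1, 3, 1, 2, 1, 3, 1, 3, 1, 3, 1, 2, 8, 0, 9, 3, 1, 2, 1, 2, 1, 2, 1, 3, 1, 2, 1, 2, 1, 2, 1, 3, 1] true) (.leaf [10, 4, 10, 5, 7, 4, 6, 4] true)) (.leaf [8, 0, 8, 8, 10, 8, 0, 9, 0, 9, 10, 0, 3, 8, 2, 0, 9, 9, 10, 9, 0, 3, 8] true)))))) (.node (.node (.node (.node (.node (.node (.leaf [0, 2, 0, 2, 0, 3, 0, 2, 0, 2, 0, 2, 0, 2, 0, 3, 0, 2, 0, 2, 0, 2, 0, 2, 0, 3, 0, 2, 0, 2, 0, 2, 0, 2, 0, 3, 0, 2, 0, 2, 0, 2, 0, 2, 0, 3, 0, 2, 0, 2, 0, 2, 0, 2, 0, 3, 0, 2, 0, 2] true) (.leaf [3, 8, 2, 0, 9, 9, 10, 9, 0, 3, 8, 8, 0, 8, 8,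 10, 8, 0, 9, 0, 9, 10, 0] true)) (.node (.leaf [2, 8, 0, 9, 3, 1, 2, 1, 2, 1, 2, 1, 3, 1, 2, 1, 2, 1, 2, 1, 3, 1, 3, 1, 3, 1, 2, 1, 3, 1, 3, 1, 3, 1] true) (.leaf [8, 4, 9, 4] true))) (.node (.node (.leaf [3, 1, 3, 1, 3, 1, 2, 1, 3, 1, 3, 1, 3, 1, 2, 1, 2, 1, 2, 1, 2, 1, 3, 1, 3, 1, 3, 1, 2, 1, 3, 8, 2, 9, 1, 3, 1, 3, 1] true) (.leaf [0, 2, 1, 3, 0, 2, 1, 3, 0, 2, 1, 3, 0, 2, 1, 3, 0, 2, 1, 3] true)) (.leaf [2, 0, 2, 0, 3, 0, 3, 0, 2, 0, 2, 0, 2, 0, 3, 0, 2, 0, 2, 0, 7, 0, 2, 0, 2, 0] true))) (.node (.node (.node (.leaf [0, 2, 0, 3, 0, 2, 0, 2, 0, 2, 0, 2, 0, 3, 0, 2, 0, 2, 0, 2, 0, 2, 0, 3, 0, 2, 0, 2, 0, 2, 0, 2, 0, 3, 0, 2, 0, 2, 0, 2, 0, 2, 0, 3, 0, 2, 0, 2, 0, 2, 0,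 2, 0, 3, 0, 2, 0, 2, 0, 2] true) (.leaf [3, 0, 8, 3, 10, 8, 0, 9, 0, 9, 2, 8, 10, 2, 8, 0, 9, 2, 10, 9, 0] true)) (.leaf [2, 1, 3, 1, 3, 0, 2, 0, 2, 1, 3, 1, 3, 0, 2, 0, 2, 1, 3, 1, 3, 0, 2, 0, 2, 1, 3, 1, 3, 0, 2, 0] true)) (.node (.node (.leaf [0, 9, 3, 1, 2, 1, 2, 1, 2, 1, 3, 1, 2, 1, 2, 1, 2, 1, 3, 1, 3, 1, 3, 1, 2, 1, 3, 1, 3, 1, 3, 1, 2, 8] true) (.leaf [6, 5, 6, 5, 7, 4, 7, 5, 10, 6, 10, 5, 6, 4] true)) (.leaf [2, 8, 0, 3, 0, 2, 10, 3, 0, 3, 9, 3, 8, 0, 8, 10, 2, 9, 3, 9, 2, 0, 3, 8, 10, 9] true)))) (.node (.node (.node (.node (.leaf [0, 2, 0, 2, 0, 2, 0, 2, 0, 3, 0, 2, 0, 2, 0, 2, 0, 2, 0, 3, 0, 2, 0, 2, 0, 2, 0, 2, 0, 3, 0, 2, 0, 2, 0, 2, 0, 2, 0, 3, 0, 2, 0, 2,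 0, 2, 0, 2, 0, 3, 0, 2, 0, 2, 0, 2, 0, 2, 0, 3] true) (.leaf [0, 8, 0, 9, 10, 0, 2, 9, 2, 9, 9, 3, 0, 10, 3, 0, 8, 2, 8, 2, 8, 10, 8] true)) (.node (.leaf [2, 1, 3, 1, 3, 0, 2, 0, 2, 1, 3, 1, 3, 0, 2, 0, 2, 1, 3, 1, 3, 0, 2, 0, 2, 1, 3, 1, 3, 0, 2, 0] true) (.leaf [2, 3] true))) (.node (.node (.leaf [2, 1, 2, 1, 2, 1, 3, 1, 3, 1, 3, 1, 2, 1, 3, 8, 2, 9, 1, 3, 1, 3, 1, 3, 1, 3, 1, 3, 1, 2, 1, 3, 1, 3, 1, 3, 1, 2, 1] true) (.leaf [3, 0, 3, 0, 2, 0, 2, 0, 2, 5, 2, 0, 3, 0, 3, 0, 2, 0, 3, 0] true)) (.leaf [2, 0, 2, 0, 7, 0, 2, 0, 2, 0, 2, 0, 2, 0, 3, 0, 3, 0, 2, 0, 2, 0, 2, 0, 3, 0] true))) (.node (.node (.node (.leaf [0, 2, 0, 2, 0, 2, 0, 3, 0, 2, 0, 2, 0, 2, 0, 2, 0, 3, 0,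 2, 0, 2, 0, 2, 0, 2, 0, 3, 0, 2, 0, 2, 0, 2, 0, 2, 0, 3, 0, 2, 0, 2, 0, 2, 0, 2, 0, 3, 0, 2, 0, 2, 0, 2, 0, 2, 0, 3, 0, 2] true) (.leaf [9, 2, 10, 9, 0, 3, 0, 8, 3, 10, 8, 0, 9, 0, 9, 2, 8, 10, 2, 8, 0] true)) (.leaf [2, 0, 2, 0, 2, 0, 2, 0, 2, 0, 2, 0, 2, 0, 2, 0, 2, 0, 2, 0, 2, 0, 2, 0, 2, 0] true)) (.node (.node (.leaf [2, 1, 3, 1, 3, 1, 3, 1, 2, 1, 3, 1, 3, 1, 3, 1, 2, 8, 0, 9, 3, 1, 2, 1, 2, 1, 2, 1, 3, 1, 2, 1, 2, 1] true) (.leaf [7, 5, 7, 9, 10, 8, 10, 6, 5, 6, 4, 7] true)) (.leaf [9, 0, 3, 8, 8, 0, 8, 8, 10, 8, 0, 9, 0, 9, 10, 0, 3, 8, 2, 0, 9, 9, 10] true))))) (.node (.node (.node (.node (.node (.leaf [0, 2, 0, 2, 0, 2, 0, 3, 0, 2, 0, 2, 0, 2, 0, 2, 0, 3, 0, 2,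 0, 2, 0, 2, 0, 2, 0, 3, 0, 2, 0, 2, 0, 2, 0, 2, 0, 3, 0, 2, 0, 2, 0, 2, 0, 2, 0, 3, 0, 2, 0, 2, 0, 2, 0, 2, 0, 3, 0, 2] true) (.leaf [0, 8, 2, 8, 2, 8, 10, 8, 0, 8, 0, 9, 10, 0, 2, 9, 2, 9, 9, 3, 0, 10, 3] true)) (.node (.leaf [2, 1, 3, 1, 3, 0, 2, 0, 2, 1, 3, 1, 3, 0, 2, 0, 2, 1, 3, 1, 3, 0, 2, 0, 2, 1, 3, 1, 3, 0, 2, 0] true) (.leaf [0, 0] true))) (.node (.node (.leaf [3, 1, 3, 1, 3, 1, 2, 1, 2, 1, 2, 1, 2, 1, 3, 1, 3, 1, 3, 1, 2, 1, 3, 8, 2, 9, 1, 3, 1, 3, 1, 3, 1, 3, 1, 3, 1, 2, 1] true) (.leaf [3, 0, 3, 0, 2, 0, 3, 0, 3, 0, 3, 0, 2, 0, 2, 0, 2, 5, 2, 0] true)) (.leaf [2, 0, 2, 0, 2, 0, 3, 0, 2, 0, 2, 0, 7, 0, 2, 0, 2, 0, 2, 0, 2, 0, 3, 0, 3, 0] true))) (.node (.node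 (.node (.leaf [0, 2, 0, 2, 0, 3, 0, 2, 0, 2, 0, 2, 0, 2, 0, 3, 0, 2, 0, 2, 0, 2, 0, 2, 0, 3, 0, 2, 0, 2, 0, 2, 0, 2, 0, 3, 0, 2, 0, 2, 0, 2, 0, 2, 0, 3, 0, 2, 0, 2, 0, 2, 0, 2, 0, 3, 0, 2, 0, 2] true) (.leaf [0, 9, 2, 8, 10, 2, 8, 0, 9, 2, 10, 9, 0, 3, 0, 8, 3, 10, 8, 0, 9] true)) (.leaf [2, 0, 2, 0, 2, 0, 2, 0, 2, 0, 2, 0, 2, 0, 2, 0, 2, 0, 2, 0, 2, 0, 2, 0, 2, 0] true)) (.node (.node (.leaf [2, 1, 3, 1, 2, 1, 2, 1, 2, 1, 3, 1, 3, 1, 3, 1, 2, 1, 3, 1, 3, 1, 3, 1, 2, 8, 0, 9, 3, 1, 2, 1, 2, 1] true) (.leaf [10, 8, 10, 6, 5, 6, 4, 7, 7, 5, 7, 9] true)) (.leaf [0, 3, 9, 3, 8, 0, 8, 10, 2, 9, 3, 9, 2, 0, 3, 8, 10, 9, 2, 8, 0, 3, 0, 2, 10, 3] true)))) (.node (.node (.node (.node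 (.leaf [0, 3, 0, 2, 0, 2, 0, 2, 0, 2, 0, 3, 0, 2, 0, 2, 0, 2, 0, 2, 0, 3, 0, 2, 0, 2, 0, 2, 0, 2, 0, 3, 0, 2, 0, 2, 0, 2, 0, 2, 0, 3, 0, 2, 0, 2, 0, 2, 0, 2, 0, 3, 0, 2, 0, 2, 0, 2, 0, 2] true) (.leaf [2, 9, 9, 3, 0, 10, 3, 0, 8, 2, 8, 2, 8, 10, 8, 0, 8, 0, 9, 10, 0, 2, 9] true)) (.node (.leaf [2, 1, 3, 1, 3, 0, 2, 0, 2, 1, 3, 1, 3, 0, 2, 0, 2, 1, 3, 1, 3, 0, 2, 0, 2, 1, 3, 1, 3, 0, 2, 0] true) (.leaf [10, 11] true))) (.node (.node (.leaf [3, 1, 3, 1, 2, 1, 3, 8, 2, 9, 1, 3, 1, 3, 1, 3, 1, 3, 1, 3, 1, 2, 1, 3, 1, 3, 1, 3, 1, 2, 1, 2, 1, 2, 1, 2, 1, 3, 1] true) (.leaf [2, 5, 2, 0, 3, 0, 3, 0, 2, 0, 3, 0, 3, 0, 3, 0, 2, 0, 2, 0] true)) (.leaf [3, 9, 2, 0, 3, 8, 10, 9, 2, 8,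 0, 3, 0, 2, 10, 3, 0, 3, 9, 3, 8, 0, 8, 10, 2, 9] true))) (.node (.node (.node (.leaf [8, 2, 9, 1, 3, 1, 3, 1, 3, 1, 3, 1, 3, 1, 2, 1, 3, 1, 3, 1, 3, 1, 2, 1, 2, 1, 2, 1, 2, 1, 3, 1, 3, 1, 3, 1, 2, 1, 3] true) (.leaf [0, 2, 1, 3, 0, 2, 1, 3, 0, 2, 1, 3, 0, 2, 1, 3, 0, 2, 1, 3] true)) (.leaf [2, 0, 2, 0, 2, 0, 2, 0, 2, 0, 2, 0, 2, 0, 2, 0, 2, 0, 2, 0, 2, 0, 2, 0, 2, 0] true)) (.node (.node (.leaf [2, 1, 3, 1, 3, 1, 3, 1, 2, 8, 0, 9, 3, 1, 2, 1, 2, 1, 2, 1, 3, 1, 2, 1, 2, 1, 2, 1, 3, 1, 3, 1, 3, 1] true) (.leaf [7, 4, 6, 4, 10, 4, 10, 5] true)) (.leaf [10, 8, 0, 9, 0, 9, 10, 0, 3, 8, 2, 0, 9, 9, 10, 9, 0, 3, 8, 8, 0, 8, 8] true))))))) (.node (.node (.node (.node (.node (.node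 (.node (.leaf [0, 2, 0, 2, 0, 2, 0, 3, 0, 2, 0, 2, 0, 2, 0, 2, 0, 3, 0, 2, 0, 2, 0, 2, 0, 2, 0, 3, 0, 2, 0, 2, 0, 2, 0, 2, 0, 3, 0, 2, 0, 2, 0, 2, 0, 2, 0, 3, 0, 2, 0, 2, 0, 2, 0, 2, 0, 3, 0, 2] true) (.leaf [10, 0, 3, 8, 2, 0, 9, 9, 10, 9, 0, 3, 8, 8, 0, 8, 8, 10, 8, 0, 9, 0, 9] true)) (.node (.leaf [3, 1, 2, 8, 0, 9, 3, 1, 2, 1, 2, 1, 2, 1, 3, 1, 2, 1, 2, 1, 2, 1, 3, 1, 3, 1, 3, 1, 2, 1, 3, 1, 3, 1] true) (.leaf [5, 5, 8, 8] true))) (.node (.node (.leaf [3, 1, 3, 1, 3, 1, 3, 1, 2, 1, 3, 1, 3, 1, 3, 1, 2, 1, 2, 1, 2, 1, 2, 1, 3, 1, 3, 1, 3, 1, 2, 1, 3, 8, 2, 9, 1, 3, 1] true) (.leaf [1, 3, 0, 2, 1, 3, 0, 2, 1, 3, 0, 2, 1, 3, 0, 2, 1, 3, 0, 2] true)) (.leaf [2, 0, 2, 0,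 2, 0, 3, 0, 3, 0, 2, 0, 2, 0, 2, 0, 3, 0, 2, 0, 2, 0, 7, 0, 2, 0] true))) (.node (.node (.node (.leaf [0, 2, 0, 2, 0, 3, 0, 2, 0, 2, 0, 2, 0, 2, 0, 3, 0, 2, 0, 2, 0, 2, 0, 2, 0, 3, 0, 2, 0, 2, 0, 2, 0, 2, 0, 3, 0, 2, 0, 2, 0, 2, 0, 2, 0, 3, 0, 2, 0, 2, 0, 2, 0, 2, 0, 3, 0, 2, 0, 2] true) (.leaf [9, 0, 3, 0, 8, 3, 10, 8, 0, 9, 0, 9, 2, 8, 10, 2, 8, 0, 9, 2, 10] true)) (.leaf [2, 0, 2, 1, 3, 1, 3, 0, 2, 0, 2, 1, 3, 1, 3, 0, 2, 0, 2, 1, 3, 1, 3, 0, 2, 0, 2, 1, 3, 1, 3, 0] true)) (.node (.node (.leaf [3, 8, 2, 9, 1, 3, 1, 3, 1, 3, 1, 3, 1, 3, 1, 2, 1, 3, 1, 3, 1, 3, 1, 2, 1, 2, 1, 2, 1, 2, 1, 3, 1, 3, 1, 3, 1, 2, 1] true) (.leaf [6, 4, 6, 5, 6, 5, 7, 4, 7, 5, 10, 6, 10, 5] true))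 (.leaf [10, 9, 2, 8, 0, 3, 0, 2, 10, 3, 0, 3, 9, 3, 8, 0, 8, 10, 2, 9, 3, 9, 2, 0, 3, 8] true)))) (.node (.node (.node (.node (.leaf [0, 3, 0, 2, 0, 2, 0, 2, 0, 2, 0, 3, 0, 2, 0, 2, 0, 2, 0, 2, 0, 3, 0, 2, 0, 2, 0, 2, 0, 2, 0, 3, 0, 2, 0, 2, 0, 2, 0, 2, 0, 3, 0, 2, 0, 2, 0, 2, 0, 2, 0, 3, 0, 2, 0, 2, 0, 2, 0, 2] true) (.leaf [10, 8, 0, 8, 0, 9, 10, 0, 2, 9, 2, 9, 9, 3, 0, 10, 3, 0, 8, 2, 8, 2, 8] true)) (.node (.leaf [2, 0, 2, 1, 3, 1, 3, 0, 2, 0, 2, 1, 3, 1, 3, 0, 2, 0, 2, 1, 3, 1, 3, 0, 2, 0, 2, 1, 3, 1, 3, 0] true) (.leaf [0, 1] true))) (.node (.node (.leaf [2, 1, 2, 1, 2, 1, 2, 1, 3, 1, 3, 1, 3, 1, 2, 1, 3, 8, 2, 9, 1, 3, 1, 3, 1, 3, 1, 3, 1, 3, 1, 2, 1, 3, 1, 3, 1,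 3, 1] true) (.leaf [3, 0, 3, 0, 3, 0, 2, 0, 2, 0, 2, 5, 2, 0, 3, 0, 3, 0, 2, 0] true)) (.leaf [3, 0, 2, 0, 2, 0, 7, 0, 2, 0, 2, 0, 2, 0, 2, 0, 3, 0, 3, 0, 2, 0, 2, 0, 2, 0] true))) (.node (.node (.node (.leaf [0, 2, 0, 2, 0, 2, 0, 2, 0, 3, 0, 2, 0, 2, 0, 2, 0, 2, 0, 3, 0, 2, 0, 2, 0, 2, 0, 2, 0, 3, 0, 2, 0, 2, 0, 2, 0, 2, 0, 3, 0, 2, 0, 2, 0, 2, 0, 2, 0, 3, 0, 2, 0, 2, 0, 2, 0, 2, 0, 3] true) (.leaf [8, 0, 9, 2, 10, 9, 0, 3, 0, 8, 3, 10, 8, 0, 9, 0, 9, 2, 8, 10, 2] true)) (.leaf [2, 0, 2, 0, 2, 0, 2, 0, 2, 0, 2, 0, 2, 0, 2, 0, 2, 0, 2, 0, 2, 0, 2, 0, 2, 0] true)) (.node (.node (.leaf [2, 1, 2, 1, 3, 1, 3, 1, 3, 1, 2, 1, 3, 1, 3, 1, 3, 1, 2, 8, 0, 9, 3, 1, 2, 1, 2, 1, 2,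 1, 3, 1, 2, 1] true) (.leaf [4, 7, 7, 5, 7, 9, 10, 8, 10, 6, 5, 6] true)) (.leaf [8, 10, 2, 9, 3, 9, 2, 0, 3, 8, 10, 9, 2, 8, 0, 3, 0, 2, 10, 3, 0, 3, 9, 3, 8, 0] true))))) (.node (.node (.node (.node (.node (.leaf [0, 2, 0, 2, 0, 2, 0, 2, 0, 3, 0, 2, 0, 2, 0, 2, 0, 2, 0, 3, 0, 2, 0, 2, 0, 2, 0, 2, 0, 3, 0, 2, 0, 2, 0, 2, 0, 2, 0, 3, 0, 2, 0, 2, 0, 2, 0, 2, 0, 3, 0, 2, 0, 2, 0, 2, 0, 2, 0, 3] true) (.leaf [10, 3, 0, 8, 2, 8, 2, 8, 10, 8, 0, 8, 0, 9, 10, 0, 2, 9, 2, 9, 9, 3, 0] true)) (.node (.leaf [2, 0, 2, 1, 3, 1, 3, 0, 2, 0, 2, 1, 3, 1, 3, 0, 2, 0, 2, 1, 3, 1, 3, 0, 2, 0, 2, 1, 3, 1, 3, 0] true) (.leaf [2, 2, 2] true))) (.node (.node (.leaf [2, 1, 3, 1, 3, 1, 3, 1, 2,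 1, 2, 1, 2, 1, 2, 1, 3, 1, 3, 1, 3, 1, 2, 1, 3, 8, 2, 9, 1, 3, 1, 3, 1, 3, 1, 3, 1, 3, 1] true) (.leaf [2, 0, 3, 0, 3, 0, 2, 0, 3, 0, 3, 0, 3, 0, 2, 0, 2, 0, 2, 5] true)) (.leaf [3, 0, 2, 0, 2, 0, 2, 0, 3, 0, 2, 0, 2, 0, 7, 0, 2, 0, 2, 0, 2, 0, 2, 0, 3, 0] true))) (.node (.node (.node (.leaf [0, 2, 0, 2, 0, 2, 0, 3, 0, 2, 0, 2, 0, 2, 0, 2, 0, 3, 0, 2, 0, 2, 0, 2, 0, 2, 0, 3, 0, 2, 0, 2, 0, 2, 0, 2, 0, 3, 0, 2, 0, 2, 0, 2, 0, 2, 0, 3, 0, 2, 0, 2, 0, 2, 0, 2, 0, 3, 0, 2] true) (.leaf [0, 9, 0, 9, 2, 8, 10, 2, 8, 0, 9, 2, 10, 9, 0, 3, 0, 8, 3, 10, 8] true)) (.leaf [2, 0, 2, 0, 2, 0, 2, 0, 2, 0, 2, 0, 2, 0, 2, 0, 2, 0, 2, 0, 2, 0, 2, 0, 2, 0] true)) (.node (.node (.leaf [2,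 1, 2, 1, 3, 1, 2, 1, 2, 1, 2, 1, 3, 1, 3, 1, 3, 1, 2, 1, 3, 1, 3, 1, 3, 1, 2, 8, 0, 9, 3, 1, 2, 1] true) (.leaf [7, 5, 10, 6, 10, 5, 6, 4, 6, 5, 6, 5, 7, 4] true)) (.leaf [10, 3, 0, 3, 9, 3, 8, 0, 8, 10, 2, 9, 3, 9, 2, 0, 3, 8, 10, 9, 2, 8, 0, 3, 0, 2] true)))) (.node (.node (.node (.node (.leaf [0, 2, 0, 3, 0, 2, 0, 2, 0, 2, 0, 2, 0, 3, 0, 2, 0, 2, 0, 2, 0, 2, 0, 3, 0, 2, 0, 2, 0, 2, 0, 2, 0, 3, 0, 2, 0, 2, 0, 2, 0, 2, 0, 3, 0, 2, 0, 2, 0, 2, 0, 2, 0, 3, 0, 2, 0, 2, 0, 2] true) (.leaf [2, 9, 2, 9, 9, 3, 0, 10, 3, 0, 8, 2, 8, 2, 8, 10, 8, 0, 8, 0, 9, 10, 0] true)) (.node (.leaf [2, 0, 2, 1, 3, 1, 3, 0, 2, 0, 2, 1, 3, 1, 3, 0, 2, 0, 2, 1, 3, 1, 3, 0, 2, 0, 2, 1, 3, 1, 3,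 0] true) (.leaf [8, 9] true))) (.node (.node (.leaf [3, 1, 3, 1, 3, 1, 2, 1, 3, 8, 2, 9, 1, 3, 1, 3, 1, 3, 1, 3, 1, 3, 1, 2, 1, 3, 1, 3, 1, 3, 1, 2, 1, 2, 1, 2, 1, 2, 1] true) (.leaf [2, 0, 2, 5, 2, 0, 3, 0, 3, 0, 2, 0, 3, 0, 3, 0, 3, 0, 2, 0] true)) (.leaf [2, 9, 3, 9, 2, 0, 3, 8, 10, 9, 2, 8, 0, 3, 0, 2, 10, 3, 0, 3, 9, 3, 8, 0, 8, 10] true))) (.node (.node (.node (.leaf [0, 3, 0, 2, 0, 2, 0, 2, 0, 2, 0, 3, 0, 2, 0, 2, 0, 2, 0, 2, 0, 3, 0, 2, 0, 2, 0, 2, 0, 2, 0, 3, 0, 2, 0, 2, 0, 2, 0, 2, 0, 3, 0, 2, 0, 2, 0, 2, 0, 2, 0, 3, 0, 2, 0, 2, 0, 2, 0, 2] true) (.leaf [1, 3, 0, 2, 1, 3, 0, 2, 1, 3, 0, 2, 1, 3, 0, 2, 1, 3, 0, 2] true)) (.leaf [2, 0, 2, 0, 2, 0, 2, 0, 2, 0, 2,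 0, 2, 0, 2, 0, 2, 0, 2, 0, 2, 0, 2, 0, 2, 0] true)) (.node (.node (.leaf [3, 1, 2, 1, 3, 1, 3, 1, 3, 1, 2, 8, 0, 9, 3, 1, 2, 1, 2, 1, 2, 1, 3, 1, 2, 1, 2, 1, 2, 1, 3, 1, 3, 1] true) (.leaf [10, 5, 7, 4, 6, 4, 10, 4] true)) (.leaf [8, 8, 10, 8, 0, 9, 0, 9, 10, 0, 3, 8, 2, 0, 9, 9, 10, 9, 0, 3, 8, 8, 0] true)))))) (.node (.node (.node (.node (.node (.node (.leaf [0, 2, 0, 3, 0, 2, 0, 2, 0, 2, 0, 2, 0, 3, 0, 2, 0, 2, 0, 2, 0, 2, 0, 3, 0, 2, 0, 2, 0, 2, 0, 2, 0, 3, 0, 2, 0, 2, 0, 2, 0, 2, 0, 3, 0, 2, 0, 2, 0, 2, 0, 2, 0, 3, 0, 2, 0, 2, 0, 2] true) (.leaf [2, 0, 9, 9, 10, 9, 0, 3, 8, 8, 0, 8, 8, 10, 8, 0, 9, 0, 9, 10, 0, 3, 8] true)) (.node (.leaf [3, 1, 3, 0, 2, 0, 2, 1, 3,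 1, 3, 0, 2, 0, 2, 1, 3, 1, 3, 0, 2, 0, 2, 1, 3, 1, 3, 0, 2, 0, 2, 1] true) (.leaf [9, 4, 8, 4] true))) (.node (.node (.leaf [3, 1, 3, 1, 2, 1, 3, 1, 3, 1, 3, 1, 2, 1, 2, 1, 2, 1, 2, 1, 3, 1, 3, 1, 3, 1, 2, 1, 3, 8, 2, 9, 1, 3, 1, 3, 1, 3, 1] true) (.leaf [1, 3, 0, 2, 1, 3, 0, 2, 1, 3, 0, 2, 1, 3, 0, 2, 1, 3, 0, 2] true)) (.leaf [2, 0, 3, 0, 3, 0, 2, 0, 2, 0, 2, 0, 3, 0, 2, 0, 2, 0, 7, 0, 2, 0, 2, 0, 2, 0] true))) (.node (.node (.node (.leaf [0, 3, 0, 2, 0, 2, 0, 2, 0, 2, 0, 3, 0, 2, 0, 2, 0, 2, 0, 2, 0, 3, 0, 2, 0, 2, 0, 2, 0, 2, 0, 3, 0, 2, 0, 2, 0, 2, 0, 2, 0, 3, 0, 2, 0, 2, 0, 2, 0, 2, 0, 3, 0, 2, 0, 2, 0, 2, 0, 2] true) (.leaf [8, 3, 10, 8, 0, 9, 0, 9, 2, 8, 10, 2, 8,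 0, 9, 2, 10, 9, 0, 3, 0] true)) (.leaf [2, 0, 2, 0, 2, 0, 2, 0, 2, 0, 2, 0, 2, 0, 2, 0, 2, 0, 2, 0, 2, 0, 2, 0, 2, 0] true)) (.node (.node (.leaf [3, 1, 2, 1, 2, 1, 2, 1, 3, 1, 2, 1, 2, 1, 2, 1, 3, 1, 3, 1, 3, 1, 2, 1, 3, 1, 3, 1, 3, 1, 2, 8, 0, 9] true) (.leaf [6, 5, 7, 4, 7, 5, 10, 6, 10, 5, 6, 4, 6, 5] true)) (.leaf [0, 3, 0, 2, 10, 3, 0, 3, 9, 3, 8, 0, 8, 10, 2, 9, 3, 9, 2, 0, 3, 8, 10, 9, 2, 8] true)))) (.node (.node (.node (.node (.leaf [0, 2, 0, 2, 0, 2, 0, 3, 0, 2, 0, 2, 0, 2, 0, 2, 0, 3, 0, 2, 0, 2, 0, 2, 0, 2, 0, 3, 0, 2, 0, 2, 0, 2, 0, 2, 0, 3, 0, 2, 0, 2, 0, 2, 0, 2, 0, 3, 0, 2, 0, 2, 0, 2, 0, 2, 0, 3, 0, 2] true) (.leaf [0, 9, 10, 0, 2, 9, 2, 9, 9, 3, 0, 10,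 3, 0, 8, 2, 8, 2, 8, 10, 8, 0, 8] true)) (.node (.leaf [3, 1, 3, 0, 2, 0, 2, 1, 3, 1, 3, 0, 2, 0, 2, 1, 3, 1, 3, 0, 2, 0, 2, 1, 3, 1, 3, 0, 2, 0, 2, 1] true) (.leaf [4, 5] true))) (.node (.node (.leaf [2, 1, 2, 1, 3, 1, 3, 1, 3, 1, 2, 1, 3, 8, 2, 9, 1, 3, 1, 3, 1, 3, 1, 3, 1, 3, 1, 2, 1, 3, 1, 3, 1, 3, 1, 2, 1, 2, 1] true) (.leaf [3, 0, 2, 0, 2, 0, 2, 5, 2, 0, 3, 0, 3, 0, 2, 0, 3, 0, 3, 0] true)) (.leaf [2, 0, 7, 0, 2, 0, 2, 0, 2, 0, 2, 0, 3, 0, 3, 0, 2, 0, 2, 0, 2, 0, 3, 0, 2, 0] true))) (.node (.node (.node (.leaf [0, 2, 0, 2, 0, 3, 0, 2, 0, 2, 0, 2, 0, 2, 0, 3, 0, 2, 0, 2, 0, 2, 0, 2, 0, 3, 0, 2, 0, 2, 0, 2, 0, 2, 0, 3, 0, 2, 0, 2, 0, 2, 0, 2, 0, 3, 0, 2, 0, 2, 0, 2,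 0, 2, 0, 3, 0, 2, 0, 2] true) (.leaf [1, 3, 0, 2, 1, 3, 0, 2, 1, 3, 0, 2, 1, 3, 0, 2, 1, 3, 0, 2] true)) (.leaf [2, 0, 2, 0, 2, 0, 2, 0, 2, 0, 2, 0, 2, 0, 2, 0, 2, 0, 2, 0, 2, 0, 2, 0, 2, 0] true)) (.node (.node (.leaf [3, 1, 3, 1, 3, 1, 2, 1, 3, 1, 3, 1, 3, 1, 2, 8, 0, 9, 3, 1, 2, 1, 2, 1, 2, 1, 3, 1, 2, 1, 2, 1, 2, 1] true) (.leaf [7, 9, 10, 8, 10, 6, 5, 6, 4, 7, 7, 5] true)) (.leaf [3, 8, 8, 0, 8, 8, 10, 8, 0, 9, 0, 9, 10, 0, 3, 8, 2, 0, 9, 9, 10, 9, 0] true))))) (.node (.node (.node (.node (.node (.leaf [0, 2, 0, 2, 0, 3, 0, 2, 0, 2, 0, 2, 0, 2, 0, 3, 0, 2, 0, 2, 0, 2, 0, 2, 0, 3, 0, 2, 0, 2, 0, 2, 0, 2, 0, 3, 0, 2, 0, 2, 0, 2, 0, 2, 0, 3, 0, 2, 0, 2, 0, 2, 0, 2, 0,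 3, 0, 2, 0, 2] true) (.leaf [2, 8, 2, 8, 10, 8, 0, 8, 0, 9, 10, 0, 2, 9, 2, 9, 9, 3, 0, 10, 3, 0, 8] true)) (.node (.leaf [3, 1, 3, 0, 2, 0, 2, 1, 3, 1, 3, 0, 2, 0, 2, 1, 3, 1, 3, 0, 2, 0, 2, 1, 3, 1, 3, 0, 2, 0, 2, 1] true) (.leaf [10, 10] true))) (.node (.node (.leaf [3, 1, 3, 1, 2, 1, 2, 1, 2, 1, 2, 1, 3, 1, 3, 1, 3, 1, 2, 1, 3, 8, 2, 9, 1, 3, 1, 3, 1, 3, 1, 3, 1, 3, 1, 2, 1, 3, 1] true) (.leaf [3, 0, 2, 0, 3, 0, 3, 0, 3, 0, 2, 0, 2, 0, 2, 5, 2, 0, 3, 0] true)) (.leaf [2, 0, 2, 0, 3, 0, 2, 0, 2, 0, 7, 0, 2, 0, 2, 0, 2, 0, 2, 0, 3, 0, 3, 0, 2, 0] true))) (.node (.node (.node (.leaf [0, 2, 0, 3, 0, 2, 0, 2, 0, 2, 0, 2, 0, 3, 0, 2, 0, 2, 0, 2, 0, 2, 0, 3, 0, 2, 0, 2, 0,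 2, 0, 2, 0, 3, 0, 2, 0, 2, 0, 2, 0, 2, 0, 3, 0, 2, 0, 2, 0, 2, 0, 2, 0, 3, 0, 2, 0, 2, 0, 2] true) (.leaf [2, 8, 10, 2, 8, 0, 9, 2, 10, 9, 0, 3, 0, 8, 3, 10, 8, 0, 9, 0, 9] true)) (.leaf [2, 0, 2, 0, 2, 0, 2, 0, 2, 0, 2, 0, 2, 0, 2, 0, 2, 0, 2, 0, 2, 0, 2, 0, 2, 0] true)) (.node (.node (.leaf [3, 1, 2, 1, 2, 1, 2, 1, 3, 1, 3, 1, 3, 1, 2, 1, 3, 1, 3, 1, 3, 1, 2, 8, 0, 9, 3, 1, 2, 1, 2, 1, 2, 1] true) (.leaf [10, 6, 5, 6, 4, 7, 7, 5, 7, 9, 10, 8] true)) (.leaf [9, 3, 8, 0, 8, 10, 2, 9, 3, 9, 2, 0, 3, 8, 10, 9, 2, 8, 0, 3, 0, 2, 10, 3, 0, 3] true)))) (.node (.node (.node (.node (.leaf [0, 2, 0, 2, 0, 2, 0, 2, 0, 3, 0, 2, 0, 2, 0, 2, 0, 2, 0, 3, 0, 2, 0, 2, 0, 2, 0, 2, 0, 3,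 0, 2, 0, 2, 0, 2, 0, 2, 0, 3, 0, 2, 0, 2, 0, 2, 0, 2, 0, 3, 0, 2, 0, 2, 0, 2, 0, 2, 0, 3] true) (.leaf [9, 3, 0, 10, 3, 0, 8, 2, 8, 2, 8, 10, 8, 0, 8, 0, 9, 10, 0, 2, 9, 2, 9] true)) (.leaf [3, 1, 3, 0, 2, 0, 2, 1, 3, 1, 3, 0, 2, 0, 2, 1, 3, 1, 3, 0, 2, 0, 2, 1, 3, 1, 3, 0, 2, 0, 2, 1] true)) (.node (.node (.leaf [3, 1, 2, 1, 3, 8, 2, 9, 1, 3, 1, 3, 1, 3, 1, 3, 1, 3, 1, 2, 1, 3, 1, 3, 1, 3, 1, 2, 1, 2, 1, 2, 1, 2, 1, 3, 1, 3, 1] true) (.leaf [10, 6, 10, 5, 6, 4, 6, 5, 6, 5, 7, 4, 7, 5] true)) (.leaf [2, 0, 3, 8, 10, 9, 2, 8, 0, 3, 0, 2, 10, 3, 0, 3, 9, 3, 8, 0, 8, 10, 2, 9, 3, 9] true))) (.node (.node (.node (.leaf [9, 1, 3, 1, 3, 1, 3, 1, 3, 1, 3, 1, 2, 1, 3, 1, 3, 1, 3,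 1, 2, 1, 2, 1, 2, 1, 2, 1, 3, 1, 3, 1, 3, 1, 2, 1, 3, 8, 2] true) (.leaf [1, 3, 0, 2, 1, 3, 0, 2, 1, 3, 0, 2, 1, 3, 0, 2, 1, 3, 0, 2] true)) (.leaf [2, 0, 2, 0, 2, 0, 2, 0, 2, 0, 2, 0, 2, 0, 2, 0, 2, 0, 2, 0, 2, 0, 2, 0, 2, 0] true)) (.node (.node (.leaf [3, 1, 3, 1, 3, 1, 2, 8, 0, 9, 3, 1, 2, 1, 2, 1, 2, 1, 3, 1, 2, 1, 2, 1, 2, 1, 3, 1, 3, 1, 3, 1, 2, 1] true) (.leaf [6, 4, 10, 4, 10, 5, 7, 4] true)) (.leaf [0, 9, 0, 9, 10, 0, 3, 8, 2, 0, 9, 9, 10, 9, 0, 3, 8, 8, 0, 8, 8, 10, 8] true)))))))) (.node (.node (.node (.node (.node (.node (.node (.node (.leaf [2, 0, 2, 0, 2, 0, 2, 0, 3, 0, 2, 0, 2, 0, 2, 0, 2, 0, 3, 0, 2, 0, 2, 0, 2, 0, 2, 0, 3, 0, 2, 0, 2, 0, 2, 0, 2, 0, 3,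 0, 2, 0, 2, 0, 2, 0, 2, 0, 3, 0, 2, 0, 2, 0, 2, 0, 2, 0, 3, 0] true) (.leaf [9, 10, 0, 3, 8, 2, 0, 9, 9, 10, 9, 0, 3, 8, 8, 0, 8, 8, 10, 8, 0, 9, 0] true)) (.node (.leaf [1, 3, 1, 2, 8, 0, 9, 3, 1, 2, 1, 2, 1, 2, 1, 3, 1, 2, 1, 2, 1, 2, 1, 3, 1, 3, 1, 3, 1, 2, 1, 3, 1, 3] true) (.leaf [8, 5, 5, 8] true))) (.node (.node (.leaf [1, 3, 1, 3, 1, 3, 1, 3, 1, 2, 1, 3, 1, 3, 1, 3, 1, 2, 1, 2, 1, 2, 1, 2, 1, 3, 1, 3, 1, 3, 1, 2, 1, 3, 8, 2, 9, 1, 3] true) (.leaf [2, 1, 3, 0, 2, 1, 3, 0, 2, 1, 3, 0, 2, 1, 3, 0, 2, 1, 3, 0] true)) (.leaf [0, 2, 0, 2, 0, 2, 0, 3, 0, 3, 0, 2, 0, 2, 0, 2, 0, 3, 0, 2, 0, 2, 0, 7, 0, 2] true))) (.node (.node (.node (.leaf [2, 0, 2, 0, 2, 0, 3, 0, 2, 0,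 2, 0, 2, 0, 2, 0, 3, 0, 2, 0, 2, 0, 2, 0, 2, 0, 3, 0, 2, 0, 2, 0, 2, 0, 2, 0, 3, 0, 2, 0, 2, 0, 2, 0, 2, 0, 3, 0, 2, 0, 2, 0, 2, 0, 2, 0, 3, 0, 2, 0] true) (.leaf [10, 9, 0, 3, 0, 8, 3, 10, 8, 0, 9, 0, 9, 2, 8, 10, 2, 8, 0, 9, 2] true)) (.leaf [0, 2, 0, 2, 1, 3, 1, 3, 0, 2, 0, 2, 1, 3, 1, 3, 0, 2, 0, 2, 1, 3, 1, 3, 0, 2, 0, 2, 1, 3, 1, 3] true)) (.node (.node (.leaf [1, 3, 8, 2, 9, 1, 3, 1, 3, 1, 3, 1, 3, 1, 3, 1, 2, 1, 3, 1, 3, 1, 3, 1, 2, 1, 2, 1, 2, 1, 2, 1, 3, 1, 3, 1, 3, 1, 2] true) (.leaf [5, 6, 4, 6, 5, 6, 5, 7, 4, 7, 5, 10, 6, 10] true)) (.leaf [8, 10, 9, 2, 8, 0, 3, 0, 2, 10, 3, 0, 3, 9, 3, 8, 0, 8, 10, 2, 9, 3, 9, 2, 0, 3] true)))) (.node (.node (.node (.node (.leaf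 [2, 0, 3, 0, 2, 0, 2, 0, 2, 0, 2, 0, 3, 0, 2, 0, 2, 0, 2, 0, 2, 0, 3, 0, 2, 0, 2, 0, 2, 0, 2, 0, 3, 0, 2, 0, 2, 0, 2, 0, 2, 0, 3, 0, 2, 0, 2, 0, 2, 0, 2, 0, 3, 0, 2, 0, 2, 0, 2, 0] true) (.leaf [8, 10, 8, 0, 8, 0, 9, 10, 0, 2, 9, 2, 9, 9, 3, 0, 10, 3, 0, 8, 2, 8, 2] true)) (.node (.leaf [0, 2, 0, 2, 1, 3, 1, 3, 0, 2, 0, 2, 1, 3, 1, 3, 0, 2, 0, 2, 1, 3, 1, 3, 0, 2, 0, 2, 1, 3, 1, 3] true) (.leaf [1, 0] true))) (.node (.node (.leaf [1, 2, 1, 2, 1, 2, 1, 2, 1, 3, 1, 3, 1, 3, 1, 2, 1, 3, 8, 2, 9, 1, 3, 1, 3, 1, 3, 1, 3, 1, 3, 1, 2, 1, 3, 1, 3, 1, 3] true) (.leaf [0, 3, 0, 3, 0, 3, 0, 2, 0, 2, 0, 2, 5, 2, 0, 3, 0, 3, 0, 2] true)) (.leaf [0, 3, 0, 2, 0, 2, 0, 7, 0, 2, 0, 2, 0,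 2, 0, 2, 0, 3, 0, 3, 0, 2, 0, 2, 0, 2] true))) (.node (.node (.node (.leaf [3, 0, 2, 0, 2, 0, 2, 0, 2, 0, 3, 0, 2, 0, 2, 0, 2, 0, 2, 0, 3, 0, 2, 0, 2, 0, 2, 0, 2, 0, 3, 0, 2, 0, 2, 0, 2, 0, 2, 0, 3, 0, 2, 0, 2, 0, 2, 0, 2, 0, 3, 0, 2, 0, 2, 0, 2, 0, 2, 0] true) (.leaf [2, 8, 0, 9, 2, 10, 9, 0, 3, 0, 8, 3, 10, 8, 0, 9, 0, 9, 2, 8, 10] true)) (.leaf [0, 2, 0, 2, 0, 2, 0, 2, 0, 2, 0, 2, 0, 2, 0, 2, 0, 2, 0, 2, 0, 2, 0, 2, 0, 2] true)) (.node (.node (.leaf [1, 2, 1, 2, 1, 3, 1, 3, 1, 3, 1, 2, 1, 3, 1, 3, 1, 3, 1, 2, 8, 0, 9, 3, 1, 2, 1, 2, 1, 2, 1, 3, 1, 2] true) (.leaf [6, 4, 7, 7, 5, 7, 9, 10, 8, 10, 6, 5] true)) (.leaf [0, 8, 10, 2, 9, 3, 9, 2, 0, 3, 8, 10, 9, 2, 8, 0, 3,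 0, 2, 10, 3, 0, 3, 9, 3, 8] true))))) (.node (.node (.node (.node (.node (.leaf [3, 0, 2, 0, 2, 0, 2, 0, 2, 0, 3, 0, 2, 0, 2, 0, 2, 0, 2, 0, 3, 0, 2, 0, 2, 0, 2, 0, 2, 0, 3, 0, 2, 0, 2, 0, 2, 0, 2, 0, 3, 0, 2, 0, 2, 0, 2, 0, 2, 0, 3, 0, 2, 0, 2, 0, 2, 0, 2, 0] true) (.leaf [9, 10, 9, 0, 3, 8, 8, 0, 8, 8, 10, 8, 0, 9, 0, 9, 10, 0, 3, 8, 2, 0, 9] true)) (.node (.leaf [0, 2, 0, 2, 1, 3, 1, 3, 0, 2, 0, 2, 1, 3, 1, 3, 0, 2, 0, 2, 1, 3, 1, 3, 0, 2, 0, 2, 1, 3, 1, 3] true) (.leaf [2, 2, 2] true))) (.node (.node (.leaf [1, 2, 1, 3, 1, 3, 1, 3, 1, 2, 1, 2, 1, 2, 1, 2, 1, 3, 1, 3, 1, 3, 1, 2, 1, 3, 8, 2, 9, 1, 3, 1, 3, 1, 3, 1, 3, 1, 3] true) (.leaf [2, 1, 3, 0, 2, 1, 3, 0, 2, 1,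 3, 0, 2, 1, 3, 0, 2, 1, 3, 0] true)) (.leaf [0, 3, 0, 2, 0, 2, 0, 2, 0, 3, 0, 2, 0, 2, 0, 7, 0, 2, 0, 2, 0, 2, 0, 2, 0, 3] true))) (.node (.node (.node (.leaf [2, 0, 2, 0, 2, 0, 2, 0, 3, 0, 2, 0, 2, 0, 2, 0, 2, 0, 3, 0, 2, 0, 2, 0, 2, 0, 2, 0, 3, 0, 2, 0, 2, 0, 2, 0, 2, 0, 3, 0, 2, 0, 2, 0, 2, 0, 2, 0, 3, 0, 2, 0, 2, 0, 2, 0, 2, 0, 3, 0] true) (.leaf [8, 0, 9, 0, 9, 2, 8, 10, 2, 8, 0, 9, 2, 10, 9, 0, 3, 0, 8, 3, 10] true)) (.leaf [0, 2, 0, 2, 0, 2, 0, 2, 0, 2, 0, 2, 0, 2, 0, 2, 0, 2, 0, 2, 0, 2, 0, 2, 0, 2] true)) (.node (.node (.leaf [1, 2, 1, 2, 1, 3, 1, 2, 1, 2, 1, 2, 1, 3, 1, 3, 1, 3, 1, 2, 1, 3, 1, 3, 1, 3, 1, 2, 8, 0, 9, 3, 1, 2] true) (.leaf [4, 7, 5, 10, 6, 10, 5,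 6, 4, 6, 5, 6, 5, 7] true)) (.leaf [2, 10, 3, 0, 3, 9, 3, 8, 0, 8, 10, 2, 9, 3, 9, 2, 0, 3, 8, 10, 9, 2, 8, 0, 3, 0] true)))) (.node (.node (.node (.node (.leaf [2, 0, 2, 0, 3, 0, 2, 0, 2, 0, 2, 0, 2, 0, 3, 0, 2, 0, 2, 0, 2, 0, 2, 0, 3, 0, 2, 0, 2, 0, 2, 0, 2, 0, 3, 0, 2, 0, 2, 0, 2, 0, 2, 0, 3, 0, 2, 0, 2, 0, 2, 0, 2, 0, 3, 0, 2, 0, 2, 0] true) (.leaf [0, 2, 9, 2, 9, 9, 3, 0, 10, 3, 0, 8, 2, 8, 2, 8, 10, 8, 0, 8, 0, 9, 10] true)) (.node (.leaf [0, 2, 0, 2, 1, 3, 1, 3, 0, 2, 0, 2, 1, 3, 1, 3, 0, 2, 0, 2, 1, 3, 1, 3, 0, 2, 0, 2, 1, 3, 1, 3] true) (.leaf [9, 8] true))) (.node (.node (.leaf [1, 3, 1, 3, 1, 3, 1, 2, 1, 3, 8, 2, 9, 1, 3, 1, 3, 1, 3, 1, 3, 1, 3, 1, 2, 1, 3, 1,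 3, 1, 3, 1, 2, 1, 2, 1, 2, 1, 2] true) (.leaf [0, 2, 0, 2, 5, 2, 0, 3, 0, 3, 0, 2, 0, 3, 0, 3, 0, 3, 0, 2] true)) (.leaf [10, 2, 9, 3, 9, 2, 0, 3, 8, 10, 9, 2, 8, 0, 3, 0, 2, 10, 3, 0, 3, 9, 3, 8, 0, 8] true))) (.node (.node (.node (.leaf [2, 0, 3, 0, 2, 0, 2, 0, 2, 0, 2, 0, 3, 0, 2, 0, 2, 0, 2, 0, 2, 0, 3, 0, 2, 0, 2, 0, 2, 0, 2, 0, 3, 0, 2, 0, 2, 0, 2, 0, 2, 0, 3, 0, 2, 0, 2, 0, 2, 0, 2, 0, 3, 0, 2, 0, 2, 0, 2, 0] true) (.leaf [2, 1, 3, 0, 2, 1, 3, 0, 2, 1, 3, 0, 2, 1, 3, 0, 2, 1, 3, 0] true)) (.leaf [0, 2, 0, 2, 0, 2, 0, 2, 0, 2, 0, 2, 0, 2, 0, 2, 0, 2, 0, 2, 0, 2, 0, 2, 0, 2] true)) (.node (.node (.leaf [1, 3, 1, 2, 1, 3, 1, 3, 1, 3, 1, 2, 8, 0, 9, 3, 1, 2, 1, 2, 1,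 2, 1, 3, 1, 2, 1, 2, 1, 2, 1, 3, 1, 3] true) (.leaf [4, 10, 5, 7, 4, 6, 4, 10] true)) (.leaf [0, 8, 8, 10, 8, 0, 9, 0, 9, 10, 0, 3, 8, 2, 0, 9, 9, 10, 9, 0, 3, 8, 8] true)))))) (.node (.node (.node (.node (.node (.node (.leaf [2, 0, 2, 0, 3, 0, 2, 0, 2, 0, 2, 0, 2, 0, 3, 0, 2, 0, 2, 0, 2, 0, 2, 0, 3, 0, 2, 0, 2, 0, 2, 0, 2, 0, 3, 0, 2, 0, 2, 0, 2, 0, 2, 0, 3, 0, 2, 0, 2, 0, 2, 0, 2, 0, 3, 0, 2, 0, 2, 0] true) (.leaf [8, 2, 0, 9, 9, 10, 9, 0, 3, 8, 8, 0, 8, 8, 10, 8, 0, 9, 0, 9, 10, 0, 3] true)) (.node (.leaf [1, 3, 1, 3, 0, 2, 0, 2, 1, 3, 1, 3, 0, 2, 0, 2, 1, 3, 1, 3, 0, 2, 0, 2, 1, 3, 1, 3, 0, 2, 0, 2] true) (.leaf [4, 9, 4, 8] true))) (.node (.node (.leaf [1, 3, 1, 3,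 1, 2, 1, 3, 1, 3, 1, 3, 1, 2, 1, 2, 1, 2, 1, 2, 1, 3, 1, 3, 1, 3, 1, 2, 1, 3, 8, 2, 9, 1, 3, 1, 3, 1, 3] true) (.leaf [2, 1, 3, 0, 2, 1, 3, 0, 2, 1, 3, 0, 2, 1, 3, 0, 2, 1, 3, 0] true)) (.leaf [0, 2, 0, 3, 0, 3, 0, 2, 0, 2, 0, 2, 0, 3, 0, 2, 0, 2, 0, 7, 0, 2, 0, 2, 0, 2] true))) (.node (.node (.node (.leaf [2, 0, 3, 0, 2, 0, 2, 0, 2, 0, 2, 0, 3, 0, 2, 0, 2, 0, 2, 0, 2, 0, 3, 0, 2, 0, 2, 0, 2, 0, 2, 0, 3, 0, 2, 0, 2, 0, 2, 0, 2, 0, 3, 0, 2, 0, 2, 0, 2, 0, 2, 0, 3, 0, 2, 0, 2, 0, 2, 0] true) (.leaf [0, 8, 3, 10, 8, 0, 9, 0, 9, 2, 8, 10, 2, 8, 0, 9, 2, 10, 9, 0, 3] true)) (.leaf [0, 2, 0, 2, 0, 2, 0, 2, 0, 2, 0, 2, 0, 2, 0, 2, 0, 2, 0, 2, 0, 2, 0, 2, 0, 2] true)) (.node (.node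 (.leaf [9, 3, 1, 2, 1, 2, 1, 2, 1, 3, 1, 2, 1, 2, 1, 2, 1, 3, 1, 3, 1, 3, 1, 2, 1, 3, 1, 3, 1, 3, 1, 2, 8, 0] true) (.leaf [5, 6, 5, 7, 4, 7, 5, 10, 6, 10, 5, 6, 4, 6] true)) (.leaf [8, 0, 3, 0, 2, 10, 3, 0, 3, 9, 3, 8, 0, 8, 10, 2, 9, 3, 9, 2, 0, 3, 8, 10, 9, 2] true)))) (.node (.node (.node (.node (.leaf [2, 0, 2, 0, 2, 0, 2, 0, 3, 0, 2, 0, 2, 0, 2, 0, 2, 0, 3, 0, 2, 0, 2, 0, 2, 0, 2, 0, 3, 0, 2, 0, 2, 0, 2, 0, 2, 0, 3, 0, 2, 0, 2, 0, 2, 0, 2, 0, 3, 0, 2, 0, 2, 0, 2, 0, 2, 0, 3, 0] true) (.leaf [8, 0, 9, 10, 0, 2, 9, 2, 9, 9, 3, 0, 10, 3, 0, 8, 2, 8, 2, 8, 10, 8, 0] true)) (.node (.leaf [1, 3, 1, 3, 0, 2, 0, 2, 1, 3, 1, 3, 0, 2, 0, 2, 1, 3, 1, 3, 0, 2, 0, 2, 1, 3, 1, 3,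 0, 2, 0, 2] true) (.leaf [5, 4] true))) (.node (.node (.leaf [1, 2, 1, 2, 1, 3, 1, 3, 1, 3, 1, 2, 1, 3, 8, 2, 9, 1, 3, 1, 3, 1, 3, 1, 3, 1, 3, 1, 2, 1, 3, 1, 3, 1, 3, 1, 2, 1, 2] true) (.leaf [0, 3, 0, 2, 0, 2, 0, 2, 5, 2, 0, 3, 0, 3, 0, 2, 0, 3, 0, 3] true)) (.leaf [0, 2, 0, 7, 0, 2, 0, 2, 0, 2, 0, 2, 0, 3, 0, 3, 0, 2, 0, 2, 0, 2, 0, 3, 0, 2] true))) (.node (.node (.node (.leaf [2, 0, 2, 0, 2, 0, 3, 0, 2, 0, 2, 0, 2, 0, 2, 0, 3, 0, 2, 0, 2, 0, 2, 0, 2, 0, 3, 0, 2, 0, 2, 0, 2, 0, 2, 0, 3, 0, 2, 0, 2, 0, 2, 0, 2, 0, 3, 0, 2, 0, 2, 0, 2, 0, 2, 0, 3, 0, 2, 0] true) (.leaf [2, 10, 9, 0, 3, 0, 8, 3, 10, 8, 0, 9, 0, 9, 2, 8, 10, 2, 8, 0, 9] true)) (.leaf [0, 2, 0, 2, 0, 2, 0,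 2, 0, 2, 0, 2, 0, 2, 0, 2, 0, 2, 0, 2, 0, 2, 0, 2, 0, 2] true)) (.node (.node (.leaf [1, 3, 1, 3, 1, 3, 1, 2, 1, 3, 1, 3, 1, 3, 1, 2, 8, 0, 9, 3, 1, 2, 1, 2, 1, 2, 1, 3, 1, 2, 1, 2, 1, 2] true) (.leaf [5, 7, 9, 10, 8, 10, 6, 5, 6, 4, 7, 7] true)) (.leaf [0, 3, 8, 8, 0, 8, 8, 10, 8, 0, 9, 0, 9, 10, 0, 3, 8, 2, 0, 9, 9, 10, 9] true))))) (.node (.node (.node (.node (.node (.leaf [2, 0, 2, 0, 2, 0, 3, 0, 2, 0, 2, 0, 2, 0, 2, 0, 3, 0, 2, 0, 2, 0, 2, 0, 2, 0, 3, 0, 2, 0, 2, 0, 2, 0, 2, 0, 3, 0, 2, 0, 2, 0, 2, 0, 2, 0, 3, 0, 2, 0, 2, 0, 2, 0, 2, 0, 3, 0, 2, 0] true) (.leaf [8, 2, 8, 2, 8, 10, 8, 0, 8, 0, 9, 10, 0, 2, 9, 2, 9, 9, 3, 0, 10, 3, 0] true)) (.node (.leaf [1, 3, 1, 3,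 0, 2, 0, 2, 1, 3, 1, 3, 0, 2, 0, 2, 1, 3, 1, 3, 0, 2, 0, 2, 1, 3, 1, 3, 0, 2, 0, 2] true) (.leaf [10, 10] true))) (.node (.node (.leaf [1, 3, 1, 3, 1, 2, 1, 2, 1, 2, 1, 2, 1, 3, 1, 3, 1, 3, 1, 2, 1, 3, 8, 2, 9, 1, 3, 1, 3, 1, 3, 1, 3, 1, 3, 1, 2, 1, 3] true) (.leaf [0, 3, 0, 2, 0, 3, 0, 3, 0, 3, 0, 2, 0, 2, 0, 2, 5, 2, 0, 3] true)) (.leaf [0, 2, 0, 2, 0, 3, 0, 2, 0, 2, 0, 7, 0, 2, 0, 2, 0, 2, 0, 2, 0, 3, 0, 3, 0, 2] true))) (.node (.node (.node (.leaf [2, 0, 2, 0, 3, 0, 2, 0, 2, 0, 2, 0, 2, 0, 3, 0, 2, 0, 2, 0, 2, 0, 2, 0, 3, 0, 2, 0, 2, 0, 2, 0, 2, 0, 3, 0, 2, 0, 2, 0, 2, 0, 2, 0, 3, 0, 2, 0, 2, 0, 2, 0, 2, 0, 3, 0, 2, 0, 2, 0] true) (.leaf [9, 2, 8, 10, 2, 8, 0, 9, 2,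 10, 9, 0, 3, 0, 8, 3, 10, 8, 0, 9, 0] true)) (.leaf [0, 2, 0, 2, 0, 2, 0, 2, 0, 2, 0, 2, 0, 2, 0, 2, 0, 2, 0, 2, 0, 2, 0, 2, 0, 2] true)) (.node (.node (.leaf [1, 3, 1, 2, 1, 2, 1, 2, 1, 3, 1, 3, 1, 3, 1, 2, 1, 3, 1, 3, 1, 3, 1, 2, 8, 0, 9, 3, 1, 2, 1, 2, 1, 2] true) (.leaf [8, 10, 6, 5, 6, 4, 7, 7, 5, 7, 9, 10] true)) (.leaf [3, 9, 3, 8, 0, 8, 10, 2, 9, 3, 9, 2, 0, 3, 8, 10, 9, 2, 8, 0, 3, 0, 2, 10, 3, 0] true)))) (.node (.node (.node (.node (.leaf [3, 0, 2, 0, 2, 0, 2, 0, 2, 0, 3, 0, 2, 0, 2, 0, 2, 0, 2, 0, 3, 0, 2, 0, 2, 0, 2, 0, 2, 0, 3, 0, 2, 0, 2, 0, 2, 0, 2, 0, 3, 0, 2, 0, 2, 0, 2, 0, 2, 0, 3, 0, 2, 0, 2, 0, 2, 0, 2, 0] true) (.leaf [9, 9, 3, 0, 10, 3, 0, 8, 2, 8,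 2, 8, 10, 8, 0, 8, 0, 9, 10, 0, 2, 9, 2] true)) (.leaf [1, 3, 1, 3, 0, 2, 0, 2, 1, 3, 1, 3, 0, 2, 0, 2, 1, 3, 1, 3, 0, 2, 0, 2, 1, 3, 1, 3, 0, 2, 0, 2] true)) (.node (.node (.leaf [1, 3, 1, 2, 1, 3, 8, 2, 9, 1, 3, 1, 3, 1, 3, 1, 3, 1, 3, 1, 2, 1, 3, 1, 3, 1, 3, 1, 2, 1, 2, 1, 2, 1, 2, 1, 3, 1, 3] true) (.leaf [5, 2, 0, 3, 0, 3, 0, 2, 0, 3, 0, 3, 0, 3, 0, 2, 0, 2, 0, 2] true)) (.leaf [9, 2, 0, 3, 8, 10, 9, 2, 8, 0, 3, 0, 2, 10, 3, 0, 3, 9, 3, 8, 0, 8, 10, 2, 9, 3] true))) (.node (.node (.node (.leaf [2, 9, 1, 3, 1, 3, 1, 3, 1, 3, 1, 3, 1, 2, 1, 3, 1, 3, 1, 3, 1, 2, 1, 2, 1, 2, 1, 2, 1, 3, 1, 3, 1, 3, 1, 2, 1, 3, 8] true) (.leaf [2, 1, 3, 0, 2, 1, 3, 0, 2, 1, 3, 0, 2, 1, 3,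 0, 2, 1, 3, 0] true)) (.leaf [0, 2, 0, 2, 0, 2, 0, 2, 0, 2, 0, 2, 0, 2, 0, 2, 0, 2, 0, 2, 0, 2, 0, 2, 0, 2] true)) (.node (.node (.leaf [1, 3, 1, 3, 1, 3, 1, 2, 8, 0, 9, 3, 1, 2, 1, 2, 1, 2, 1, 3, 1, 2, 1, 2, 1, 2, 1, 3, 1, 3, 1, 3, 1, 2] true) (.leaf [4, 6, 4, 10, 4, 10, 5, 7] true)) (.leaf [8, 0, 9, 0, 9, 10, 0, 3, 8, 2, 0, 9, 9, 10, 9, 0, 3, 8, 8, 0, 8, 8, 10] true))))))) (.node (.node (.node (.node (.node (.node (.node (.leaf [2, 0, 2, 0, 2, 0, 3, 0, 2, 0, 2, 0, 2, 0, 2, 0, 3, 0, 2, 0, 2, 0, 2, 0, 2, 0, 3, 0, 2, 0, 2, 0, 2, 0, 2, 0, 3, 0, 2, 0, 2, 0, 2, 0, 2, 0, 3, 0, 2, 0, 2, 0, 2, 0, 2, 0, 3, 0, 2, 0] true) (.leaf [0, 3, 8, 2, 0, 9, 9, 10, 9, 0, 3, 8, 8, 0, 8, 8, 10,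 8, 0, 9, 0, 9, 10] true)) (.node (.leaf [1, 2, 8, 0, 9, 3, 1, 2, 1, 2, 1, 2, 1, 3, 1, 2, 1, 2, 1, 2, 1, 3, 1, 3, 1, 3, 1, 2, 1, 3, 1, 3, 1, 3] true) (.leaf [5, 8, 8, 5] true))) (.node (.node (.leaf [1, 3, 1, 3, 1, 3, 1, 2, 1, 3, 1, 3, 1, 3, 1, 2, 1, 2, 1, 2, 1, 2, 1, 3, 1, 3, 1, 3, 1, 2, 1, 3, 8, 2, 9, 1, 3, 1, 3] true) (.leaf [3, 0, 2, 1, 3, 0, 2, 1, 3, 0, 2, 1, 3, 0, 2, 1, 3, 0, 2, 1] true)) (.leaf [0, 2, 0, 2, 0, 3, 0, 3, 0, 2, 0, 2, 0, 2, 0, 3, 0, 2, 0, 2, 0, 7, 0, 2, 0, 2] true))) (.node (.node (.node (.leaf [2, 0, 2, 0, 3, 0, 2, 0, 2, 0, 2, 0, 2, 0, 3, 0, 2, 0, 2, 0, 2, 0, 2, 0, 3, 0, 2, 0, 2, 0, 2, 0, 2, 0, 3, 0, 2, 0, 2, 0, 2, 0, 2, 0, 3, 0, 2, 0, 2, 0, 2, 0, 2,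 0, 3, 0, 2, 0, 2, 0] true) (.leaf [0, 3, 0, 8, 3, 10, 8, 0, 9, 0, 9, 2, 8, 10, 2, 8, 0, 9, 2, 10, 9] true)) (.leaf [0, 2, 1, 3, 1, 3, 0, 2, 0, 2, 1, 3, 1, 3, 0, 2, 0, 2, 1, 3, 1, 3, 0, 2, 0, 2, 1, 3, 1, 3, 0, 2] true)) (.node (.node (.leaf [8, 0, 9, 3, 1, 2, 1, 2, 1, 2, 1, 3, 1, 2, 1, 2, 1, 2, 1, 3, 1, 3, 1, 3, 1, 2, 1, 3, 1, 3, 1, 3, 1, 2] true) (.leaf [4, 6, 5, 6, 5, 7, 4, 7, 5, 10, 6, 10, 5, 6] true)) (.leaf [9, 2, 8, 0, 3, 0, 2, 10, 3, 0, 3, 9, 3, 8, 0, 8, 10, 2, 9, 3, 9, 2, 0, 3, 8, 10] true)))) (.node (.node (.node (.node (.leaf [3, 0, 2, 0, 2, 0, 2, 0, 2, 0, 3, 0, 2, 0, 2, 0, 2, 0, 2, 0, 3, 0, 2, 0, 2, 0, 2, 0, 2, 0, 3, 0, 2, 0, 2, 0, 2, 0, 2, 0, 3, 0, 2, 0, 2, 0,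 2, 0, 2, 0, 3, 0, 2, 0, 2, 0, 2, 0, 2, 0] true) (.leaf [8, 0, 8, 0, 9, 10, 0, 2, 9, 2, 9, 9, 3, 0, 10, 3, 0, 8, 2, 8, 2, 8, 10] true)) (.node (.leaf [0, 2, 1, 3, 1, 3, 0, 2, 0, 2, 1, 3, 1, 3, 0, 2, 0, 2, 1, 3, 1, 3, 0, 2, 0, 2, 1, 3, 1, 3, 0, 2] true) (.leaf [3, 2] true))) (.node (.node (.leaf [1, 2, 1, 2, 1, 2, 1, 3, 1, 3, 1, 3, 1, 2, 1, 3, 8, 2, 9, 1, 3, 1, 3, 1, 3, 1, 3, 1, 3, 1, 2, 1, 3, 1, 3, 1, 3, 1, 2] true) (.leaf [0, 3, 0, 3, 0, 2, 0, 2, 0, 2, 5, 2, 0, 3, 0, 3, 0, 2, 0, 3] true)) (.leaf [0, 2, 0, 2, 0, 7, 0, 2, 0, 2, 0, 2, 0, 2, 0, 3, 0, 3, 0, 2, 0, 2, 0, 2, 0, 3] true))) (.node (.node (.node (.leaf [2, 0, 2, 0, 2, 0, 2, 0, 3, 0, 2, 0, 2, 0, 2, 0, 2, 0, 3, 0, 2,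 0, 2, 0, 2, 0, 2, 0, 3, 0, 2, 0, 2, 0, 2, 0, 2, 0, 3, 0, 2, 0, 2, 0, 2, 0, 2, 0, 3, 0, 2, 0, 2, 0, 2, 0, 2, 0, 3, 0] true) (.leaf [0, 9, 2, 10, 9, 0, 3, 0, 8, 3, 10, 8, 0, 9, 0, 9, 2, 8, 10, 2, 8] true)) (.leaf [0, 2, 0, 2, 0, 2, 0, 2, 0, 2, 0, 2, 0, 2, 0, 2, 0, 2, 0, 2, 0, 2, 0, 2, 0, 2] true)) (.node (.node (.leaf [1, 2, 1, 3, 1, 3, 1, 3, 1, 2, 1, 3, 1, 3, 1, 3, 1, 2, 8, 0, 9, 3, 1, 2, 1, 2, 1, 2, 1, 3, 1, 2, 1, 2] true) (.leaf [7, 7, 5, 7, 9, 10, 8, 10, 6, 5, 6, 4] true)) (.leaf [10, 9, 0, 3, 8, 8, 0, 8, 8, 10, 8, 0, 9, 0, 9, 10, 0, 3, 8, 2, 0, 9, 9] true))))) (.node (.node (.node (.node (.node (.leaf [2, 0, 2, 0, 2, 0, 2, 0, 3, 0, 2, 0, 2, 0, 2, 0, 2, 0, 3, 0, 2, 0,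 2, 0, 2, 0, 2, 0, 3, 0, 2, 0, 2, 0, 2, 0, 2, 0, 3, 0, 2, 0, 2, 0, 2, 0, 2, 0, 3, 0, 2, 0, 2, 0, 2, 0, 2, 0, 3, 0] true) (.leaf [3, 0, 8, 2, 8, 2, 8, 10, 8, 0, 8, 0, 9, 10, 0, 2, 9, 2, 9, 9, 3, 0, 10] true)) (.node (.leaf [0, 2, 1, 3, 1, 3, 0, 2, 0, 2, 1, 3, 1, 3, 0, 2, 0, 2, 1, 3, 1, 3, 0, 2, 0, 2, 1, 3, 1, 3, 0, 2] true) (.leaf [0, 0] true))) (.node (.node (.leaf [1, 3, 1, 3, 1, 3, 1, 2, 1, 2, 1, 2, 1, 2, 1, 3, 1, 3, 1, 3, 1, 2, 1, 3, 8, 2, 9, 1, 3, 1, 3, 1, 3, 1, 3, 1, 3, 1, 2] true) (.leaf [0, 3, 0, 3, 0, 2, 0, 3, 0, 3, 0, 3, 0, 2, 0, 2, 0, 2, 5, 2] true)) (.leaf [0, 2, 0, 2, 0, 2, 0, 3, 0, 2, 0, 2, 0, 7, 0, 2, 0, 2, 0, 2, 0, 2, 0, 3, 0, 3] true))) (.node (.node (.node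 (.leaf [2, 0, 2, 0, 2, 0, 3, 0, 2, 0, 2, 0, 2, 0, 2, 0, 3, 0, 2, 0, 2, 0, 2, 0, 2, 0, 3, 0, 2, 0, 2, 0, 2, 0, 2, 0, 3, 0, 2, 0, 2, 0, 2, 0, 2, 0, 3, 0, 2, 0, 2, 0, 2, 0, 2, 0, 3, 0, 2, 0] true) (.leaf [9, 0, 9, 2, 8, 10, 2, 8, 0, 9, 2, 10, 9, 0, 3, 0, 8, 3, 10, 8, 0] true)) (.leaf [0, 2, 0, 2, 0, 2, 0, 2, 0, 2, 0, 2, 0, 2, 0, 2, 0, 2, 0, 2, 0, 2, 0, 2, 0, 2] true)) (.node (.node (.leaf [1, 2, 1, 3, 1, 2, 1, 2, 1, 2, 1, 3, 1, 3, 1, 3, 1, 2, 1, 3, 1, 3, 1, 3, 1, 2, 8, 0, 9, 3, 1, 2, 1, 2] true) (.leaf [5, 10, 6, 10, 5, 6, 4, 6, 5, 6, 5, 7, 4, 7] true)) (.leaf [3, 0, 3, 9, 3, 8, 0, 8, 10, 2, 9, 3, 9, 2, 0, 3, 8, 10, 9, 2, 8, 0, 3, 0, 2, 10] true)))) (.node (.node (.node (.node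 (.leaf [2, 0, 3, 0, 2, 0, 2, 0, 2, 0, 2, 0, 3, 0, 2, 0, 2, 0, 2, 0, 2, 0, 3, 0, 2, 0, 2, 0, 2, 0, 2, 0, 3, 0, 2, 0, 2, 0, 2, 0, 2, 0, 3, 0, 2, 0, 2, 0, 2, 0, 2, 0, 3, 0, 2, 0, 2, 0, 2, 0] true) (.leaf [9, 2, 9, 9, 3, 0, 10, 3, 0, 8, 2, 8, 2, 8, 10, 8, 0, 8, 0, 9, 10, 0, 2] true)) (.node (.leaf [0, 2, 1, 3, 1, 3, 0, 2, 0, 2, 1, 3, 1, 3, 0, 2, 0, 2, 1, 3, 1, 3, 0, 2, 0, 2, 1, 3, 1, 3, 0, 2] true) (.leaf [11, 10] true))) (.node (.node (.leaf [1, 3, 1, 3, 1, 2, 1, 3, 8, 2, 9, 1, 3, 1, 3, 1, 3, 1, 3, 1, 3, 1, 2, 1, 3, 1, 3, 1, 3, 1, 2, 1, 2, 1, 2, 1, 2, 1, 3] true) (.leaf [0, 2, 5, 2, 0, 3, 0, 3, 0, 2, 0, 3, 0, 3, 0, 3, 0, 2, 0, 2] true)) (.leaf [9, 3, 9, 2, 0, 3, 8, 10, 9, 2,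 8, 0, 3, 0, 2, 10, 3, 0, 3, 9, 3, 8, 0, 8, 10, 2] true))) (.node (.node (.node (.leaf [3, 0, 2, 0, 2, 0, 2, 0, 2, 0, 3, 0, 2, 0, 2, 0, 2, 0, 2, 0, 3, 0, 2, 0, 2, 0, 2, 0, 2, 0, 3, 0, 2, 0, 2, 0, 2, 0, 2, 0, 3, 0, 2, 0, 2, 0, 2, 0, 2, 0, 3, 0, 2, 0, 2, 0, 2, 0, 2, 0] true) (.leaf [3, 0, 2, 1, 3, 0, 2, 1, 3, 0, 2, 1, 3, 0, 2, 1, 3, 0, 2, 1] true)) (.leaf [0, 2, 0, 2, 0, 2, 0, 2, 0, 2, 0, 2, 0, 2, 0, 2, 0, 2, 0, 2, 0, 2, 0, 2, 0, 2] true)) (.node (.node (.leaf [1, 2, 1, 3, 1, 3, 1, 3, 1, 2, 8, 0, 9, 3, 1, 2, 1, 2, 1, 2, 1, 3, 1, 2, 1, 2, 1, 2, 1, 3, 1, 3, 1, 3] true) (.leaf [5, 7, 4, 6, 4, 10, 4, 10] true)) (.leaf [8, 10, 8, 0, 9, 0, 9, 10, 0, 3, 8, 2, 0, 9, 9, 10, 9, 0, 3,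 8, 8, 0, 8] true)))))) (.node (.node (.node (.node (.node (.node (.leaf [2, 0, 3, 0, 2, 0, 2, 0, 2, 0, 2, 0, 3, 0, 2, 0, 2, 0, 2, 0, 2, 0, 3, 0, 2, 0, 2, 0, 2, 0, 2, 0, 3, 0, 2, 0, 2, 0, 2, 0, 2, 0, 3, 0, 2, 0, 2, 0, 2, 0, 2, 0, 3, 0, 2, 0, 2, 0, 2, 0] true) (.leaf [0, 9, 9, 10, 9, 0, 3, 8, 8, 0, 8, 8, 10, 8, 0, 9, 0, 9, 10, 0, 3, 8, 2] true)) (.node (.leaf [1, 3, 0, 2, 0, 2, 1, 3, 1, 3, 0, 2, 0, 2, 1, 3, 1, 3, 0, 2, 0, 2, 1, 3, 1, 3, 0, 2, 0, 2, 1, 3] true) (.leaf [4, 8, 4, 9] true))) (.node (.node (.leaf [1, 3, 1, 2, 1, 3, 1, 3, 1, 3, 1, 2, 1, 2, 1, 2, 1, 2, 1, 3, 1, 3, 1, 3, 1, 2, 1, 3, 8, 2, 9, 1, 3, 1, 3, 1, 3, 1, 3] true) (.leaf [3, 0, 2, 1, 3, 0, 2, 1, 3, 0, 2, 1,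 3, 0, 2, 1, 3, 0, 2, 1] true)) (.leaf [0, 3, 0, 3, 0, 2, 0, 2, 0, 2, 0, 3, 0, 2, 0, 2, 0, 7, 0, 2, 0, 2, 0, 2, 0, 2] true))) (.node (.node (.node (.leaf [3, 0, 2, 0, 2, 0, 2, 0, 2, 0, 3, 0, 2, 0, 2, 0, 2, 0, 2, 0, 3, 0, 2, 0, 2, 0, 2, 0, 2, 0, 3, 0, 2, 0, 2, 0, 2, 0, 2, 0, 3, 0, 2, 0, 2, 0, 2, 0, 2, 0, 3, 0, 2, 0, 2, 0, 2, 0, 2, 0] true) (.leaf [3, 10, 8, 0, 9, 0, 9, 2, 8, 10, 2, 8, 0, 9, 2, 10, 9, 0, 3, 0, 8] true)) (.leaf [0, 2, 0, 2, 0, 2, 0, 2, 0, 2, 0, 2, 0, 2, 0, 2, 0, 2, 0, 2, 0, 2, 0, 2, 0, 2] true)) (.node (.node (.leaf [1, 2, 1, 2, 1, 2, 1, 3, 1, 2, 1, 2, 1, 2, 1, 3, 1, 3, 1, 3, 1, 2, 1, 3, 1, 3, 1, 3, 1, 2, 8, 0, 9, 3] true) (.leaf [5, 7, 4, 7, 5, 10, 6, 10, 5,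 6, 4, 6, 5, 6] true)) (.leaf [3, 0, 2, 10, 3, 0, 3, 9, 3, 8, 0, 8, 10, 2, 9, 3, 9, 2, 0, 3, 8, 10, 9, 2, 8, 0] true)))) (.node (.node (.node (.node (.leaf [2, 0, 2, 0, 2, 0, 3, 0, 2, 0, 2, 0, 2, 0, 2, 0, 3, 0, 2, 0, 2, 0, 2, 0, 2, 0, 3, 0, 2, 0, 2, 0, 2, 0, 2, 0, 3, 0, 2, 0, 2, 0, 2, 0, 2, 0, 3, 0, 2, 0, 2, 0, 2, 0, 2, 0, 3, 0, 2, 0] true) (.leaf [9, 10, 0, 2, 9, 2, 9, 9, 3, 0, 10, 3, 0, 8, 2, 8, 2, 8, 10, 8, 0, 8, 0] true)) (.node (.leaf [1, 3, 0, 2, 0, 2, 1, 3, 1, 3, 0, 2, 0, 2, 1, 3, 1, 3, 0, 2, 0, 2, 1, 3, 1, 3, 0, 2, 0, 2, 1, 3] true) (.leaf [7, 6] true))) (.node (.node (.leaf [1, 2, 1, 3, 1, 3, 1, 3, 1, 2, 1, 3, 8, 2, 9, 1, 3, 1, 3, 1, 3, 1, 3, 1, 3, 1, 2, 1, 3, 1,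 3, 1, 3, 1, 2, 1, 2, 1, 2] true) (.leaf [0, 2, 0, 2, 0, 2, 5, 2, 0, 3, 0, 3, 0, 2, 0, 3, 0, 3, 0, 3] true)) (.leaf [0, 7, 0, 2, 0, 2, 0, 2, 0, 2, 0, 3, 0, 3, 0, 2, 0, 2, 0, 2, 0, 3, 0, 2, 0, 2] true))) (.node (.node (.node (.leaf [2, 0, 2, 0, 3, 0, 2, 0, 2, 0, 2, 0, 2, 0, 3, 0, 2, 0, 2, 0, 2, 0, 2, 0, 3, 0, 2, 0, 2, 0, 2, 0, 2, 0, 3, 0, 2, 0, 2, 0, 2, 0, 2, 0, 3, 0, 2, 0, 2, 0, 2, 0, 2, 0, 3, 0, 2, 0, 2, 0] true) (.leaf [3, 0, 2, 1, 3, 0, 2, 1, 3, 0, 2, 1, 3, 0, 2, 1, 3, 0, 2, 1] true)) (.leaf [0, 2, 0, 2, 0, 2, 0, 2, 0, 2, 0, 2, 0, 2, 0, 2, 0, 2, 0, 2, 0, 2, 0, 2, 0, 2] true)) (.node (.node (.leaf [1, 3, 1, 3, 1, 2, 1, 3, 1, 3, 1, 3, 1, 2, 8, 0, 9, 3, 1, 2, 1, 2, 1, 2,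 1, 3, 1, 2, 1, 2, 1, 2, 1, 3] true) (.leaf [9, 10, 8, 10, 6, 5, 6, 4, 7, 7, 5, 7] true)) (.leaf [8, 8, 0, 8, 8, 10, 8, 0, 9, 0, 9, 10, 0, 3, 8, 2, 0, 9, 9, 10, 9, 0, 3] true))))) (.node (.node (.node (.node (.node (.leaf [2, 0, 2, 0, 3, 0, 2, 0, 2, 0, 2, 0, 2, 0, 3, 0, 2, 0, 2, 0, 2, 0, 2, 0, 3, 0, 2, 0, 2, 0, 2, 0, 2, 0, 3, 0, 2, 0, 2, 0, 2, 0, 2, 0, 3, 0, 2, 0, 2, 0, 2, 0, 2, 0, 3, 0, 2, 0, 2, 0] true) (.leaf [8, 2, 8, 10, 8, 0, 8, 0, 9, 10, 0, 2, 9, 2, 9, 9, 3, 0, 10, 3, 0, 8, 2] true)) (.node (.leaf [1, 3, 0, 2, 0, 2, 1, 3, 1, 3, 0, 2, 0, 2, 1, 3, 1, 3, 0, 2, 0, 2, 1, 3, 1, 3, 0, 2, 0, 2, 1, 3] true) (.leaf [0] false))) (.node (.node (.leaf [1, 3, 1, 2, 1, 2, 1, 2, 1,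 2, 1, 3, 1, 3, 1, 3, 1, 2, 1, 3, 8, 2, 9, 1, 3, 1, 3, 1, 3, 1, 3, 1, 3, 1, 2, 1, 3, 1, 3] true) (.leaf [0, 2, 0, 3, 0, 3, 0, 3, 0, 2, 0, 2, 0, 2, 5, 2, 0, 3, 0, 3] true)) (.leaf [0, 2, 0, 3, 0, 2, 0, 2, 0, 7, 0, 2, 0, 2, 0, 2, 0, 2, 0, 3, 0, 3, 0, 2, 0, 2] true))) (.node (.node (.node (.leaf [2, 0, 3, 0, 2, 0, 2, 0, 2, 0, 2, 0, 3, 0, 2, 0, 2, 0, 2, 0, 2, 0, 3, 0, 2, 0, 2, 0, 2, 0, 2, 0, 3, 0, 2, 0, 2, 0, 2, 0, 2, 0, 3, 0, 2, 0, 2, 0, 2, 0, 2, 0, 3, 0, 2, 0, 2, 0, 2, 0] true) (.leaf [8, 10, 2, 8, 0, 9, 2, 10, 9, 0, 3, 0, 8, 3, 10, 8, 0, 9, 0, 9, 2] true)) (.leaf [0, 2, 0, 2, 0, 2, 0, 2, 0, 2, 0, 2, 0, 2, 0, 2, 0, 2, 0, 2, 0, 2, 0, 2, 0, 2] true)) (.node (.node (.leaf [1,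 2, 1, 2, 1, 2, 1, 3, 1, 3, 1, 3, 1, 2, 1, 3, 1, 3, 1, 3, 1, 2, 8, 0, 9, 3, 1, 2, 1, 2, 1, 2, 1, 3] true) (.leaf [6, 5, 6, 4, 7, 7, 5, 7, 9, 10, 8, 10] true)) (.leaf [3, 8, 0, 8, 10, 2, 9, 3, 9, 2, 0, 3, 8, 10, 9, 2, 8, 0, 3, 0, 2, 10, 3, 0, 3, 9] true)))) (.node (.node (.node (.node (.leaf [2, 0, 2, 0, 2, 0, 2, 0, 3, 0, 2, 0, 2, 0, 2, 0, 2, 0, 3, 0, 2, 0, 2, 0, 2, 0, 2, 0, 3, 0, 2, 0, 2, 0, 2, 0, 2, 0, 3, 0, 2, 0, 2, 0, 2, 0, 2, 0, 3, 0, 2, 0, 2, 0, 2, 0, 2, 0, 3, 0] true) (.leaf [3, 0, 10, 3, 0, 8, 2, 8, 2, 8, 10, 8, 0, 8, 0, 9, 10, 0, 2, 9, 2, 9, 9] true)) (.leaf [1, 3, 0, 2, 0, 2, 1, 3, 1, 3, 0, 2, 0, 2, 1, 3, 1, 3, 0, 2, 0, 2, 1, 3, 1, 3, 0, 2, 0, 2, 1, 3] true)) (.node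 (.node (.leaf [1, 2, 1, 3, 8, 2, 9, 1, 3, 1, 3, 1, 3, 1, 3, 1, 3, 1, 2, 1, 3, 1, 3, 1, 3, 1, 2, 1, 2, 1, 2, 1, 2, 1, 3, 1, 3, 1, 3] true) (.leaf [6, 10, 5, 6, 4, 6, 5, 6, 5, 7, 4, 7, 5, 10] true)) (.leaf [0, 3, 8, 10, 9, 2, 8, 0, 3, 0, 2, 10, 3, 0, 3, 9, 3, 8, 0, 8, 10, 2, 9, 3, 9, 2] true))) (.node (.node (.node (.leaf [1, 3, 1, 3, 1, 3, 1, 3, 1, 3, 1, 2, 1, 3, 1, 3, 1, 3, 1, 2, 1, 2, 1, 2, 1, 2, 1, 3, 1, 3, 1, 3, 1, 2, 1, 3, 8, 2, 9] true) (.leaf [3, 0, 2, 1, 3, 0, 2, 1, 3, 0, 2, 1, 3, 0, 2, 1, 3, 0, 2, 1] true)) (.leaf [0, 2, 0, 2, 0, 2, 0, 2, 0, 3, 0, 3, 0, 2, 0, 2, 0, 2, 0, 3, 0, 2, 0, 2, 0, 7] true)) (.node (.node (.leaf [1, 3, 1, 3, 1, 2, 8, 0, 9, 3, 1, 2, 1, 2, 1,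 2, 1, 3, 1, 2, 1, 2, 1, 2, 1, 3, 1, 3, 1, 3, 1, 2, 1, 3] true) (.leaf [4, 10, 4, 10, 5, 7, 4, 6] true)) (.leaf [9, 0, 9, 10, 0, 3, 8, 2, 0, 9, 9, 10, 9, 0, 3, 8, 8, 0, 8, 8, 10, 8, 0] true))))))))

end Cfsg.Agent.Lib.H6.RuTC
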